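import Cfsg.Agent.RootSeq.Main

/-!
# Identification of two simple groups with the same positive commutator relations (rank two)

`ident`: `G`, `K` simple, generated by the root groups of root data `c : R2 m G`, `c' : R2 m K`, `3 ≤ m`, and for
`1 ≤ k ≤ m` a subgroup `XΔ k` of `G × K` which is the graph of an isomorphism `X k ≅ X' k`, such that the
`XΔ k` satisfy the commutator relations `⁅XΔ k, XΔ l⁆ ≤ ⟨XΔ r | k < r < l⟩`.  Then `G ≃* K`.
Nothing is assumed on the action of the reflections.  `ident_rgdz` = the same for `RGDZ`.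
`good_of_simple`: the reflections do not lie in the Borel subgroup as soon as `U ≠ ⊥`, `U ≠ ⊤`.
-/

set_option autoImplicit false

namespace Cfsg.Agent.RootSeq.Final

open Cfsg.Agent.TitsThree.RankTwoRGD Cfsg.Agent.TitsThree.RankTwoIdx Cfsg.Agent.TitsThree.RankTwoZ
open Cfsg.Agent.RootSeq.Seg Cfsg.Agent.RootSeq.Cell Cfsg.Agent.RootSeq.Main
open scoped commutatorElement

universe u v u' v'

section pair

variable {m : ℕ} {G : Type u} {K : Type v} [Group G] [Group K] {Ω : Type u'} {Ω' : Type v'}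
    [MulAction G Ω] [MulAction K Ω'] (P : Pair m G K Ω Ω')

/-- The group of compatible pairs. -/
def graph : Subgroup (G × K) where
  carrier := {p | ∀ a b, P.FR a b ↔ P.FR (p.1 • a) (p.2 • b)}
  one_mem' := by
    intro a b
    rw [Prod.fst_one, Prod.snd_one, one_smul, one_smul]
  mul_mem' := by
    intro p q hp hq a b
    rw [Prod.fst_mul, Prod.snd_mul, mul_smul, mul_smul]
    exact (hq a b).trans (hp _ _)
  inv_mem' := by
    intro p hp a b
    have h := hp (p⁻¹.1 • a) (p⁻¹.2 • b)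
    rw [Prod.fst_inv, Prod.snd_inv, smul_inv_smul, smul_inv_smul] at h
    exact h.symm

theorem mem_graph {p : G × K} (h : ∀ a b, P.FR a b → P.FR (p.1 • a) (p.2 • b)) : p ∈ graph P := by
  intro a b
  refine ⟨h a b, fun h' => ?_⟩
  obtain ⟨b2, hb2⟩ := P.FR_total a
  have h1 := MulAction.injective p.2 (P.FR_func h' (h a b2 hb2))
  rw [h1]
  exact hb2

theorem XI'_le : P.c.XI' ≤ (graph P).map (MonoidHom.fst G K) := by
  intro g hg
  by_cases h1 : g = 1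
  · subst h1; exact one_mem _
  obtain ⟨k, hk⟩ := P.partner hg h1
  exact ⟨(g, k), mem_graph P hk, rfl⟩

theorem graph_symm : graph P.symm = graph P := by
  ext p
  constructor
  · intro h a b
    rw [← P.FR_symm, ← P.FR_symm]
    exact h a b
  · intro h a b
    rw [P.FR_symm, P.FR_symm]
    exact h a b

theorem map_fst (hgen : P.c.U ⊔ (P.c.XI' ⊔ P.c.XJ') = ⊤) : (graph P).map (MonoidHom.fst G K) = ⊤ := by
  rw [eq_top_iff, ← hgen]
  refine sup_le ?_ (sup_le (XI'_le P) ?_)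
  · intro x hx
    obtain ⟨y, _, h⟩ := P.ex_seg le_rfl le_rfl (x := x) hx
    exact ⟨(x, y), mem_graph P fun a b hab => P.FR_smul h hab, rfl⟩
  · rw [← graph_symm]
    exact XI'_le P.symm

theorem map_snd (hgen : P.c'.U ⊔ (P.c'.XI' ⊔ P.c'.XJ') = ⊤) : (graph P).map (MonoidHom.snd G K) = ⊤ := by
  rw [eq_top_iff, ← map_fst P.swap hgen]
  rintro _ ⟨⟨k, g⟩, h, rfl⟩
  refine ⟨(g, k), ?_, rfl⟩
  intro a b
  have h1 := h b a
  exact (P.FR_swap.symm.trans h1).trans P.FR_swap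

theorem equiv [IsSimpleGroup G] [IsSimpleGroup K] (hgen : P.c.U ⊔ (P.c.XI' ⊔ P.c.XJ') = ⊤)
    (hgen' : P.c'.U ⊔ (P.c'.XI' ⊔ P.c'.XJ') = ⊤) : Nonempty (G ≃* K) := by
  refine Cfsg.Agent.TitsThree.RankTwoIdent.equiv_of_graph (graph P) (map_fst P hgen) (map_snd P hgen')
    (D P.c') ?_ ?_
  · intro h
    apply P.good'.I
    change P.c'.nI ∈ D P.c'
    rw [h]
    trivial
  · intro k hk
    have h1 : P.FR P.o P.o' := by
      have h := P.FR_base true (Nat.zero_le m)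
      simpa using h
    have h2 := (hk P.o P.o').1 h1
    rw [one_smul] at h2
    exact (P.stab' k).1 (P.FR_func h1 h2).symm

end pair

/-! ### Families satisfying commutator relations -/

section fam

variable {m : ℕ} {Y : Type u} [Group Y] {X : ℕ → Subgroup Y}

theorem fam_decomp (hc : ∀ k l, 1 ≤ k → k < l → l ≤ m → ∀ x ∈ X k, ∀ y ∈ X l,
    ⁅x, y⁆ ∈ ⨆ r ∈ Set.Ioo k l, X r) {a : ℕ} (h1 : 1 ≤ a) (h2 : a ≤ m) {u : Y}
    (hu : u ∈ ⨆ k ∈ Set.Icc a m, X k) : ∃ v ∈ ⨆ k ∈ Set.Icc (a + 1) m, X k, ∃ x ∈ X a, u = v * x := by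
  have e : (⨆ k ∈ Set.Icc a m, X k) = (⨆ k ∈ Set.Icc (a + 1) m, X k) ⊔ X a := by
    apply le_antisymm
    · refine iSup₂_le fun k hk => ?_
      rcases Nat.lt_or_ge a k with h | h
      · exact (le_iSup₂_of_le (f := fun k (_ : k ∈ Set.Icc (a + 1) m) => X k) k ⟨h, hk.2⟩ le_rfl).trans
          le_sup_left
      · rw [le_antisymm h hk.1]; exact le_sup_right
    · refine sup_le (iSup₂_le fun k hk => ?_) ?_
      · exact le_iSup₂_of_le (f := fun k (_ : k ∈ Set.Icc a m) => X k) k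
          ⟨by have := hk.1; omega, hk.2⟩ le_rfl
      · exact le_iSup₂_of_le (f := fun k (_ : k ∈ Set.Icc a m) => X k) a ⟨le_rfl, h2⟩ le_rfl
  rw [e] at hu
  refine R2.decomp_aux (fun x hx v hv => ?_) hu
  refine R2.conj_iSup (fun k hk y hy => ?_) v hv
  have h3 := hc a k h1 hk.1 hk.2 x hx y hy
  have h4 : ⁅x, y⁆ ∈ ⨆ k ∈ Set.Icc (a + 1) m, X k := by
    refine (iSup₂_le fun r hr => ?_ : (⨆ r ∈ Set.Ioo a k, X r) ≤ _) h3
    exact le_iSup₂_of_le (f := fun k (_ : k ∈ Set.Icc (a + 1) m) => X k) r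
      ⟨hr.1, hr.2.le.trans hk.2⟩ le_rfl
  have h5 : y ∈ ⨆ k ∈ Set.Icc (a + 1) m, X k :=
    le_iSup₂_of_le (f := fun k (_ : k ∈ Set.Icc (a + 1) m) => X k) k hk le_rfl hy
  have e2 : x * y * x⁻¹ = ⁅x, y⁆ * y := by rw [commutatorElement_def]; group
  rw [e2]
  exact mul_mem h4 h5

end fam

/-- Hypotheses on the family `XΔ` of graphs. -/
structure Fam {m : ℕ} {G : Type u} {K : Type v} [Group G] [Group K] (c : R2 m G) (c' : R2 m K)
    (XΔ : ℕ → Subgroup (G × K)) : Prop where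
  mem : ∀ k, 1 ≤ k → k ≤ m → ∀ x y, (x, y) ∈ XΔ k → x ∈ c.X k ∧ y ∈ c'.X k
  ex : ∀ k, 1 ≤ k → k ≤ m → ∀ x ∈ c.X k, ∃ y, (x, y) ∈ XΔ k
  ex' : ∀ k, 1 ≤ k → k ≤ m → ∀ y ∈ c'.X k, ∃ x, (x, y) ∈ XΔ k
  inj : ∀ k, 1 ≤ k → k ≤ m → ∀ y, (1, y) ∈ XΔ k → y = 1
  inj' : ∀ k, 1 ≤ k → k ≤ m → ∀ x, (x, 1) ∈ XΔ k → x = 1
  comm : ∀ k l, 1 ≤ k → k < l → l ≤ m → ∀ x ∈ XΔ k, ∀ y ∈ XΔ l, ⁅x, y⁆ ∈ ⨆ r ∈ Set.Ioo k l, XΔ r

section ident

variable {m : ℕ} {G : Type u} {K : Type v} [Group G] [Group K] {c : R2 m G} {c' : R2 m K}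
    {XΔ : ℕ → Subgroup (G × K)}

theorem Fam.le (F : Fam c c' XΔ) {a : ℕ} (h1 : 1 ≤ a) {x : G} {y : K}
    (h : (x, y) ∈ ⨆ k ∈ Set.Icc a m, XΔ k) : x ∈ seg c a m ∧ y ∈ seg c' a m := by
  have h2 : (⨆ k ∈ Set.Icc a m, XΔ k) ≤ (seg c a m).prod (seg c' a m) := by
    refine iSup₂_le fun k hk p hp => ?_
    have h3 := F.mem k (h1.trans hk.1) hk.2 p.1 p.2 hp
    exact ⟨X_le_seg c hk.1 hk.2 h3.1, X_le_seg c' hk.1 hk.2 h3.2⟩
  exact h2 h

theorem Fam.inj_all (F : Fam c c' XΔ) (hg : Good c) (hg' : Good c') : ∀ j a, a + j = m + 1 → 1 ≤ a →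
    ∀ x y, (x, y) ∈ ⨆ k ∈ Set.Icc a m, XΔ k → (x = 1 → y = 1) ∧ (y = 1 → x = 1) := by
  intro j
  induction j with
  | zero =>
    intro a ha _ x y h
    have h1 : (⨆ k ∈ Set.Icc a m, XΔ k) = ⊥ := by
      rw [eq_bot_iff]
      refine iSup₂_le fun k hk => ?_
      have := hk.1.trans hk.2
      omega
    rw [h1] at h
    have h2 : (x, y) = 1 := h
    have h3 : x = 1 := congrArg Prod.fst h2
    have h4 : y = 1 := congrArg Prod.snd h2
    exact ⟨fun _ => h4, fun _ => h3⟩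
  | succ j ih =>
    intro a ha h1 x y h
    obtain ⟨⟨v, v'⟩, hv, ⟨s, t⟩, hs, e⟩ := fam_decomp F.comm h1 (by omega) h
    have ex : x = v * s := congrArg Prod.fst e
    have ey : y = v' * t := congrArg Prod.snd e
    have h2 := ih (a + 1) (by omega) (by omega) v v' hv
    have h3 := F.le (by omega) hv
    have h4 := F.mem a h1 (by omega) s t hs
    constructor
    · intro hx
      have h5 : s⁻¹ = v := by
        rw [hx] at ex
        exact (eq_inv_of_mul_eq_one_left ex.symm).symm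
      have h6 : s⁻¹ = 1 := seg_inf hg a (by omega) _
        (X_le_seg c h1 le_rfl (inv_mem h4.1)) (by rw [h5]; exact h3.1)
      have h7 : v = 1 := by rw [← h5, h6]
      have h8 : s = 1 := inv_eq_one.1 h6
      subst h8
      rw [ey, h2.1 h7, F.inj a h1 (by omega) t hs, one_mul]
    · intro hy
      have h5 : t⁻¹ = v' := by
        rw [hy] at ey
        exact (eq_inv_of_mul_eq_one_left ey.symm).symm
      have h6 : t⁻¹ = 1 := seg_inf hg' a (by omega) _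
        (X_le_seg c' h1 le_rfl (inv_mem h4.2)) (by rw [h5]; exact h3.2)
      have h7 : v' = 1 := by rw [← h5, h6]
      have h8 : t = 1 := inv_eq_one.1 h6
      subst h8
      rw [ex, h2.2 h7, F.inj' a h1 (by omega) s hs, one_mul]

theorem stab_quot (c : R2 m G) : Stab c (QuotientGroup.mk 1 : G ⧸ D c) := by
  intro g
  rw [MulAction.Quotient.smul_mk, QuotientGroup.eq]
  constructor
  · intro h
    have h1 := inv_mem h
    simpa using h1
  · intro h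
    have h1 := inv_mem h
    simpa using h1

theorem tr_quot (c : R2 m G) (hgen : c.U ⊔ (c.XI' ⊔ c.XJ') = ⊤) (a : G ⧸ D c) :
    ∃ ι, ∃ k ≤ m, ∃ u ∈ c.U, a = u • w c ι k • (QuotientGroup.mk 1 : G ⧸ D c) := by
  obtain ⟨g, rfl⟩ := QuotientGroup.mk_surjective a
  obtain ⟨ι, k, hk, u, hu, e⟩ := exists_smul (stab_quot c) hgen g
  refine ⟨ι, k, hk, u, hu, ?_⟩
  rw [← e, MulAction.Quotient.smul_mk, smul_eq_mul, mul_one]

/-- **Identification theorem**: the positive commutator relations determine the group. -/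
theorem ident [IsSimpleGroup G] [IsSimpleGroup K] (hm : 3 ≤ m) (hg : Good c) (hg' : Good c')
    (hgen : c.U ⊔ (c.XI' ⊔ c.XJ') = ⊤) (hgen' : c'.U ⊔ (c'.XI' ⊔ c'.XJ') = ⊤)
    (F : Fam c c' XΔ) : Nonempty (G ≃* K) := by
  have hj := F.inj_all hg hg' m 1 (by omega) le_rfl
  let P : Pair m G K (G ⧸ D c) (K ⧸ D c') :=
    { c := c
      c' := c'
      o := QuotientGroup.mk 1
      o' := QuotientGroup.mk 1
      hm := hm
      good := hg
      good' := hg'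
      stab := stab_quot c
      stab' := stab_quot c'
      Θ := ⨆ k ∈ Set.Icc 1 m, XΔ k
      ex := fun k h1 h2 x hx => by
        obtain ⟨y, hy⟩ := F.ex k h1 h2 x hx
        exact ⟨y, (F.mem k h1 h2 x y hy).2,
          le_iSup₂_of_le (f := fun k (_ : k ∈ Set.Icc 1 m) => XΔ k) k ⟨h1, h2⟩ le_rfl hy⟩
      ex' := fun k h1 h2 y hy => by
        obtain ⟨x, hx⟩ := F.ex' k h1 h2 y hy
        exact ⟨x, (F.mem k h1 h2 x y hx).1,
          le_iSup₂_of_le (f := fun k (_ : k ∈ Set.Icc 1 m) => XΔ k) k ⟨h1, h2⟩ le_rfl hx⟩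
      inj := fun y hy => (hj 1 y hy).1 rfl
      inj' := fun x hx => (hj x 1 hx).2 rfl
      le := fun x y h => F.le le_rfl h
      tr := tr_quot c hgen
      tr' := tr_quot c' hgen' }
  exact equiv P hgen hgen'

end ident

/-! ### Criteria for `Good` -/

section criteria

variable {m : ℕ} {Y : Type u} [Group Y] {c : R2 m Y}

theorem D_conj {d : Y} (hd : d ∈ D c) {u : Y} (hu : u ∈ c.U) : d⁻¹ * u * d ∈ c.U := by
  obtain ⟨v, hv, h, hh, rfl⟩ := Cell.mem_D.1 hd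
  have h1 : v⁻¹ * u * v ∈ c.U := mul_mem (mul_mem (inv_mem hv) hu) hv
  have h2 := H_seg c le_rfl le_rfl (inv_mem hh) h1
  have e : h⁻¹ * (v⁻¹ * u * v) * h⁻¹⁻¹ = (v * h)⁻¹ * u * (v * h) := by group
  rwa [e] at h2

/-- if `nI ∈ D` then `XI' ≤ U` -/
theorem XI'_le_U (h : c.nI ∈ D c) : c.XI' ≤ c.U := by
  intro b hb
  have h1 := c.nI_neg b hb
  have h2 := D_conj h (c.X_le le_rfl c.one_le h1)
  have e : c.nI⁻¹ * (c.nI * b * c.nI⁻¹) * c.nI = b := by group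
  rwa [e] at h2

theorem good_of (hI : ∃ a ∈ c.XI', a ∉ c.U) (hJ : ∃ a ∈ c.XJ', a ∉ c.U) : Good c := by
  refine ⟨fun h => ?_, fun h => ?_⟩
  · obtain ⟨a, ha, hU⟩ := hI
    exact hU (XI'_le_U h ha)
  · obtain ⟨a, ha, hU⟩ := hJ
    have h1 := XI'_le_U (c := Seg.symm c) (by rw [symm_D]; exact h) ha
    rw [symm_U] at h1
    exact hU h1

/-- the main step of `good_of_simple` -/
theorem nI_of_simple [IsSimpleGroup Y] (hm : 3 ≤ m) (hgen : c.U ⊔ (c.XI' ⊔ c.XJ') = ⊤) (h1 : c.U ≠ ⊤)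
    (h2 : c.U ≠ ⊥) : c.nI ∉ c.U ⊔ c.H := by
  intro h
  have h3 : c.XI' ≤ c.U := XI'_le_U h
  -- `VJ` is normal
  have hVJ : ∀ v ∈ c.VJ, c.nJ * v * c.nJ⁻¹ ∈ c.VJ := c.core.sJ.nV
  have hVJ' : ∀ v ∈ c.VJ, c.nJ⁻¹ * v * c.nJ ∈ c.VJ := by
    intro v hv
    have h4 : (c.nJ * c.nJ)⁻¹ * v * (c.nJ * c.nJ)⁻¹⁻¹ ∈ c.VJ :=
      R2.conj_iSup (fun k hk x hx => c.X_le_VJ hk.1 hk.2
        (c.HX _ (inv_mem c.nJ_sq) k hk.1 hk.2.le x hx)) v hv
    have h5 := hVJ _ h4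
    have e : c.nJ * ((c.nJ * c.nJ)⁻¹ * v * (c.nJ * c.nJ)⁻¹⁻¹) * c.nJ⁻¹ = c.nJ⁻¹ * v * c.nJ := by group
    rwa [e] at h5
  have hXm : ∀ x ∈ c.X m, ∀ v ∈ c.VJ, x * v * x⁻¹ ∈ c.VJ := c.Xm_VJ
  have hle : ∀ {P : Subgroup Y}, (∀ x ∈ P, ∀ v ∈ c.VJ, x * v * x⁻¹ ∈ c.VJ) →
      P ≤ Subgroup.normalizer (c.VJ : Set Y) := by
    intro P hP x hx
    rw [Subgroup.mem_normalizer_iff]
    intro v
    refine ⟨fun hv => hP x hx v hv, fun hv => ?_⟩
    have h4 := hP x⁻¹ (inv_mem hx) _ hv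
    have e : x⁻¹ * (x * v * x⁻¹) * x⁻¹⁻¹ = v := by group
    rwa [e] at h4
  have hN : Subgroup.normalizer (c.VJ : Set Y) = ⊤ := by
    rw [eq_top_iff, ← hgen]
    have hU : c.U ≤ Subgroup.normalizer (c.VJ : Set Y) := by
      rw [c.U_eq_J]
      exact sup_le Subgroup.le_normalizer (hle hXm)
    refine sup_le hU (sup_le (h3.trans hU) (hle ?_))
    intro x hx v hv
    have h4 := hXm _ (c.nJ_neg x hx) _ (hVJ v hv)
    have h5 := hVJ' _ h4
    have e : c.nJ⁻¹ * (c.nJ * x * c.nJ⁻¹ * (c.nJ * v * c.nJ⁻¹) * (c.nJ * x * c.nJ⁻¹)⁻¹) * c.nJ =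
      x * v * x⁻¹ := by group
    rwa [e] at h5
  have hnormal : c.VJ.Normal := Subgroup.normalizer_eq_top_iff.1 hN
  rcases hnormal.eq_bot_or_eq_top with h4 | h4
  · apply h2
    have h5 : ∀ k, 1 ≤ k → k < m → c.X k = ⊥ := fun k hk hk' =>
      le_antisymm ((c.X_le_VJ hk hk').trans h4.le) bot_le
    rw [c.U_eq_J, h4, bot_sup_eq, eq_bot_iff]
    intro x hx
    have h6 := c.nI_X m (by omega) le_rfl x hx
    have e1 : m + 2 - m = 2 := by omega
    rw [e1, h5 2 (by norm_num) (by omega)] at h6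
    have h7 : c.nI * x * c.nI⁻¹ = 1 := h6
    have h8 : x = 1 := by simpa using h7
    exact h8
  · apply h1
    rw [eq_top_iff, ← h4]
    exact c.VJ_le

/-- **The reflections do not lie in the Borel subgroup** as soon as `⊥ ≠ U ≠ ⊤` and `G` is simple. -/
theorem good_of_simple [IsSimpleGroup Y] (hm : 3 ≤ m) (hgen : c.U ⊔ (c.XI' ⊔ c.XJ') = ⊤)
    (h1 : c.U ≠ ⊤) (h2 : c.U ≠ ⊥) : Good c := by
  refine ⟨nI_of_simple hm hgen h1 h2, ?_⟩
  have h3 := nI_of_simple (c := Seg.symm c) hm (by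
    rw [symm_U, sup_comm (Seg.symm c).XI']; exact hgen) (by rw [symm_U]; exact h1)
    (by rw [symm_U]; exact h2)
  rw [symm_U] at h3
  exact h3

end criteria

/-- The identification theorem with the criterion `good_of_simple`. -/
theorem ident_of_simple {m : ℕ} {G : Type u} {K : Type v} [Group G] [Group K] {c : R2 m G} {c' : R2 m K}
    {XΔ : ℕ → Subgroup (G × K)} [IsSimpleGroup G] [IsSimpleGroup K] (hm : 3 ≤ m)
    (hgen : c.U ⊔ (c.XI' ⊔ c.XJ') = ⊤) (hgen' : c'.U ⊔ (c'.XI' ⊔ c'.XJ') = ⊤)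
    (hU : c.U ≠ ⊤) (hU' : c'.U ≠ ⊤) (hb : c.U ≠ ⊥)
    (F : Fam c c' XΔ) : Nonempty (G ≃* K) := by
  have hb' : c'.U ≠ ⊥ := by
    intro h
    apply hb
    rw [eq_bot_iff]
    refine iSup₂_le fun k hk x hx => ?_
    obtain ⟨y, hy⟩ := F.ex k hk.1 hk.2 x hx
    have h1 := c'.X_le hk.1 hk.2 (F.mem k hk.1 hk.2 x y hy).2
    rw [h] at h1
    have h2 : y = 1 := h1
    subst h2
    exact F.inj' k hk.1 hk.2 x hy
  exact ident hm (good_of_simple hm hgen hU hb) (good_of_simple hm hgen' hU' hb') hgen hgen' F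

/-- `G` is generated by `U`, `XI'`, `XJ'` if it is generated by these and `H`. -/
theorem gen_of_core {m : ℕ} {Y : Type u} [Group Y] {c : R2 m Y} [IsSimpleGroup Y]
    (hgen : c.U ⊔ c.H ⊔ (c.XI' ⊔ c.XJ') = ⊤) (hU : c.U ≠ ⊥) : c.U ⊔ (c.XI' ⊔ c.XJ') = ⊤ := by
  set G0 := c.U ⊔ (c.XI' ⊔ c.XJ') with hG0
  have hN : c.H ≤ Subgroup.normalizer (G0 : Set Y) := by
    have h1 : ∀ h ∈ c.H, ∀ x ∈ G0, h * x * h⁻¹ ∈ G0 := by
      intro h hh
      have h2 : G0 ≤ G0.comap (MulAut.conj h).toMonoidHom := by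
        refine sup_le ?_ (sup_le ?_ ?_)
        · intro u hu
          exact (le_sup_left : c.U ≤ G0) (c.core.HU h hh u hu)
        · intro u hu
          exact ((le_sup_left : c.XI' ≤ c.XI' ⊔ c.XJ').trans le_sup_right) (c.core.sI.HA' h hh u hu)
        · intro u hu
          exact ((le_sup_right : c.XJ' ≤ c.XI' ⊔ c.XJ').trans le_sup_right) (c.core.sJ.HA' h hh u hu)
      exact fun x hx => h2 hx
    intro h hh
    rw [Subgroup.mem_normalizer_iff]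
    intro x
    refine ⟨fun hx => h1 h hh x hx, fun hx => ?_⟩
    have h4 := h1 h⁻¹ (inv_mem hh) _ hx
    have e : h⁻¹ * (h * x * h⁻¹) * h⁻¹⁻¹ = x := by group
    rwa [e] at h4
  have hN' : Subgroup.normalizer (G0 : Set Y) = ⊤ := by
    rw [eq_top_iff, ← hgen]
    exact sup_le (sup_le ((le_sup_left : c.U ≤ G0).trans Subgroup.le_normalizer) hN)
      ((le_sup_right : c.XI' ⊔ c.XJ' ≤ G0).trans Subgroup.le_normalizer)
  have hnormal : G0.Normal := Subgroup.normalizer_eq_top_iff.1 hN'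
  rcases hnormal.eq_bot_or_eq_top with h | h
  · exfalso
    apply hU
    rw [eq_bot_iff, ← h]
    exact le_sup_left
  · exact h

section rgdz

variable {m : ℕ} {Y : Type u} [Group Y] (c : RGDZ m Y)

theorem rgdz_U_ne_bot : c.r2.U ≠ ⊥ := by
  intro h
  apply c.neJ
  rw [eq_bot_iff]
  intro x hx
  have h1 := c.r2.nJ_neg x hx
  have h2 := c.r2.X_le c.one_le le_rfl h1
  rw [h] at h2
  have h3 : c.r2.nJ * x * c.r2.nJ⁻¹ = 1 := h2
  have h4 : x = 1 := by simpa using h3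
  exact h4

theorem rgdz_gen [IsSimpleGroup Y] (hgen : ⨆ k, c.X k = ⊤) :
    c.r2.U ⊔ (c.r2.XI' ⊔ c.r2.XJ') = ⊤ := by
  refine gen_of_core ?_ (rgdz_U_ne_bot c)
  rw [eq_top_iff, ← hgen]
  exact iSup_le c.X_le_G

end rgdz

/-- **Identification theorem** for root data with all root groups. -/
theorem ident_rgdz {m : ℕ} {G : Type u} {K : Type v} [Group G] [Group K] [IsSimpleGroup G]
    [IsSimpleGroup K] (hm : 3 ≤ m) (c : RGDZ m G) (c' : RGDZ m K) (hgen : ⨆ k, c.X k = ⊤)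
    (hgen' : ⨆ k, c'.X k = ⊤) (hU : c.U ≠ ⊤) (hU' : c'.U ≠ ⊤) {XΔ : ℕ → Subgroup (G × K)}
    (F : Fam c.r2 c'.r2 XΔ) : Nonempty (G ≃* K) :=
  ident_of_simple hm (rgdz_gen c hgen) (rgdz_gen c' hgen') hU hU' (rgdz_U_ne_bot c) F

end Cfsg.Agent.RootSeq.Final
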