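import Cfsg.Agent.RootSeq.Final

/-!
# `U ≠ ⊤`

`U_ne_top`: in a nonabelian simple group with a root datum of rank two whose positive root groups are
solvable, `U ≠ ⊤`.  `ident_of_solvable`, `ident_rgdz_of_solvable`: the identification theorem with this criterion.
-/

set_option autoImplicit false

namespace Cfsg.Agent.RootSeq.UTop

open Cfsg.Agent.TitsThree.RankTwoIdx Cfsg.Agent.TitsThree.RankTwoZ
open Cfsg.Agent.RootSeq.Seg Cfsg.Agent.RootSeq.Final

universe u v

variable {m : ℕ} {Y : Type u} [Group Y]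

theorem seg_ne_top {c : R2 m Y} [IsSimpleGroup Y] (hY : ¬ IsMulCommutative Y)
    (hX : ∀ k, 1 ≤ k → k ≤ m → Group.IsSolvable ↥(c.X k)) :
    ∀ j a, a + j = m + 1 → 1 ≤ a → seg c a m ≠ ⊤ := by
  intro j
  induction j with
  | zero =>
    intro a ha _ h
    rw [seg_eq_bot c (by omega)] at h
    exact bot_ne_top h
  | succ j ih =>
    intro a ha h1 h
    have hN : Subgroup.normalizer (seg c (a + 1) m : Set Y) = ⊤ := by
      rw [eq_top_iff, ← h, seg_eq c (by omega)]
      refine sup_le Subgroup.le_normalizer ?_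
      intro x hx
      rw [Subgroup.mem_normalizer_iff]
      intro v
      refine ⟨fun hv => X_conj_seg c h1 le_rfl hx hv, fun hv => ?_⟩
      have h4 := X_conj_seg c h1 le_rfl (inv_mem hx) hv
      have e : x⁻¹ * (x * v * x⁻¹) * x⁻¹⁻¹ = v := by group
      rwa [e] at h4
    have hnormal : (seg c (a + 1) m).Normal := Subgroup.normalizer_eq_top_iff.1 hN
    rcases hnormal.eq_bot_or_eq_top with h4 | h4
    · rw [seg_eq c (by omega), h4, bot_sup_eq] at h
      apply hY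
      have h5 := hX a h1 (by omega)
      rw [h] at h5
      have h6 : Group.IsSolvable Y :=
        Group.isSolvable_of_surjective (f := (Subgroup.topEquiv (G := Y)).toMonoidHom)
          (Subgroup.topEquiv (G := Y)).surjective
      exact ⟨⟨IsSimpleGroup.comm_iff_isSolvable.2 h6⟩⟩
    · exact ih (a + 1) (by omega) (by omega) h4

/-- `U ≠ ⊤` in a nonabelian simple group. -/
theorem U_ne_top {c : R2 m Y} [IsSimpleGroup Y] (hY : ¬ IsMulCommutative Y)
    (hX : ∀ k, 1 ≤ k → k ≤ m → Group.IsSolvable ↥(c.X k)) : c.U ≠ ⊤ :=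
  seg_ne_top hY hX m 1 (by omega) le_rfl

theorem solvable_of_comm {A : Subgroup Y} (h : ∀ x ∈ A, ∀ y ∈ A, x * y = y * x) : Group.IsSolvable ↥A :=
  Group.isSolvable_of_comm fun x y => Subtype.ext (h x x.2 y y.2)

/-- The identification theorem for nonabelian simple groups with solvable root groups. -/
theorem ident_of_solvable {G : Type u} {K : Type v} [Group G] [Group K] {c : R2 m G} {c' : R2 m K}
    {XΔ : ℕ → Subgroup (G × K)} [IsSimpleGroup G] [IsSimpleGroup K] (hm : 3 ≤ m)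
    (hG : ¬ IsMulCommutative G) (hK : ¬ IsMulCommutative K)
    (hX : ∀ k, 1 ≤ k → k ≤ m → Group.IsSolvable ↥(c.X k))
    (hX' : ∀ k, 1 ≤ k → k ≤ m → Group.IsSolvable ↥(c'.X k))
    (hgen : c.U ⊔ (c.XI' ⊔ c.XJ') = ⊤) (hgen' : c'.U ⊔ (c'.XI' ⊔ c'.XJ') = ⊤)
    (hb : c.U ≠ ⊥) (F : Fam c c' XΔ) : Nonempty (G ≃* K) :=
  ident_of_simple hm hgen hgen' (U_ne_top hG hX) (U_ne_top hK hX') hb F

/-- The same for root data with all root groups. -/
theorem ident_rgdz_of_solvable {G : Type u} {K : Type v} [Group G] [Group K] [IsSimpleGroup G]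
    [IsSimpleGroup K] (hm : 3 ≤ m) (c : RGDZ m G) (c' : RGDZ m K)
    (hG : ¬ IsMulCommutative G) (hK : ¬ IsMulCommutative K)
    (hX : ∀ k : ℕ, 1 ≤ k → k ≤ m → Group.IsSolvable ↥(c.X k))
    (hX' : ∀ k : ℕ, 1 ≤ k → k ≤ m → Group.IsSolvable ↥(c'.X k))
    (hgen : ⨆ k, c.X k = ⊤) (hgen' : ⨆ k, c'.X k = ⊤) {XΔ : ℕ → Subgroup (G × K)}
    (F : Fam c.r2 c'.r2 XΔ) : Nonempty (G ≃* K) :=
  ident_rgdz hm c c' hgen hgen' (U_ne_top (c := c.r2) hG hX) (U_ne_top (c := c'.r2) hK hX') F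

end Cfsg.Agent.RootSeq.UTop
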