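import Cfsg.Agent.RootSeq.Seg

/-!
# Cells and stabilisers in a rank two root datum

`w c ι k`: the alternating word of length `k` beginning with `nI` (`ι = true`) or `nJ` (`ι = false`).
`cell_unique`: the double cosets of these words, `k ≤ m`, are distinct.  For an action on `Ω` in which the
stabiliser of `o` is the Borel subgroup: the stabilisers in `U` of the points `w c ι k • o` are segments
(`stab_true`, `stab_false`).
-/

set_option autoImplicit false

namespace Cfsg.Agent.RootSeq.Cell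

open Cfsg.Agent.TitsThree.RankTwoRGD Cfsg.Agent.TitsThree.RankTwoIdx
open Cfsg.Agent.RootSeq.Seg
open scoped commutatorElement

universe u v

variable {m : ℕ} {Y : Type u} [Group Y]

/-- the two reflections -/
def n (c : R2 m Y) : Bool → Y
  | true => c.nI
  | false => c.nJ

/-- alternating words -/
def w (c : R2 m Y) : Bool → ℕ → Y
  | true, k => alt c.nI c.nJ k
  | false, k => alt c.nJ c.nI k

@[simp] theorem w_zero (c : R2 m Y) (ι : Bool) : w c ι 0 = 1 := by cases ι <;> rfl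

theorem w_succ (c : R2 m Y) (ι : Bool) (k : ℕ) : w c ι (k + 1) = n c ι * w c (!ι) k := by
  cases ι <;> rfl

theorem symm_n (c : R2 m Y) (ι : Bool) : n (symm c) ι = n c (!ι) := by cases ι <;> rfl

theorem symm_w (c : R2 m Y) (ι : Bool) (k : ℕ) : w (symm c) ι k = w c (!ι) k := by
  cases ι <;> rfl

theorem w_H (c : R2 m Y) (ι : Bool) (k : ℕ) {h : Y} (hh : h ∈ c.H) : (w c ι k)⁻¹ * h * w c ι k ∈ c.H := by
  cases ι
  · exact (c.core.alt_H k).2 h hh
  · exact (c.core.alt_H k).1 h hh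

theorem n_sq (c : R2 m Y) (ι : Bool) : n c ι * n c ι ∈ c.H := by
  cases ι
  · exact c.nJ_sq
  · exact c.nI_sq

theorem isW (c : R2 m Y) (ι : Bool) {k : ℕ} (hk : k ≤ m) : c.core.IsW (w c ι k) := by
  refine ⟨k, hk, 1, one_mem _, ?_⟩
  cases ι
  · exact Or.inr (mul_one _).symm
  · exact Or.inl (mul_one _).symm

/-- the Borel subgroup -/
def D (c : R2 m Y) : Subgroup Y := c.U ⊔ c.H

theorem U_le (c : R2 m Y) : c.U ≤ D c := le_sup_left
theorem H_le (c : R2 m Y) : c.H ≤ D c := le_sup_right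

theorem symm_D (c : R2 m Y) : D (symm c) = D c := by
  unfold D
  rw [symm_U]
  rfl

theorem mem_D {c : R2 m Y} {g : Y} : g ∈ D c ↔ ∃ u ∈ c.U, ∃ h ∈ c.H, u * h = g := c.core.mem_D

/-- `W`-part of a product `n d w`. -/
theorem mul_rule (c : R2 m Y) (ι : Bool) {w' : Y} (hw : c.core.IsW w') {d : Y} (hd : d ∈ D c) :
    ∃ b ∈ D c, ∃ w'', (w'' = w' ∨ w'' = n c ι * w') ∧ ∃ b' ∈ D c, n c ι * d * w' = b * w'' * b' := by
  obtain ⟨u, hu, h, hh, rfl⟩ := mem_D.1 hd
  cases ι
  · exact c.core.sJ.mul_rule (hw.conj_H c.core) (hw.signJ c.core) hu hh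
  · exact c.core.sI.mul_rule (hw.conj_H c.core) (hw.signI c.core) hu hh

theorem braid (c : R2 m Y) (ι : Bool) : ∃ h ∈ c.H, w c ι m = w c (!ι) m * h := by
  cases ι
  · exact (symm c).braid
  · exact c.braid

/-- `w k ∉ D` for `1 ≤ k ≤ m` -/
theorem w_not_mem {c : R2 m Y} (hg : Good c) (ι : Bool) {k : ℕ} (h1 : 1 ≤ k) (h2 : k ≤ m) :
    w c ι k ∉ D c := by
  -- it suffices to treat `ι = true`
  have key : ∀ c : R2 m Y, Good c → w c true k ∉ D c := by
    intro c hg h
    obtain ⟨k, rfl⟩ := Nat.exists_eq_add_of_le' h1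
    apply hg.I
    apply c.core.sI.mem_of_le (S := D c) (c.core.sI.A_le.trans (U_le c))
    intro a ha
    have h3 := U_le c (c.core.posI k (by omega) _ (c.core.sI.nA'_inv a ha))
    have e : w c true (k + 1) * ((alt c.core.nJ c.core.nI k)⁻¹ * (c.core.nI⁻¹ * a * c.core.nI) *
        alt c.core.nJ c.core.nI k) * (w c true (k + 1))⁻¹ = a := by
      have e1 : w c true (k + 1) = c.core.nI * alt c.core.nJ c.core.nI k := rfl
      rw [e1]; group
    rw [← e]
    exact mul_mem (mul_mem h h3) (inv_mem h)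
  cases ι
  · have h3 := key (symm c) hg.symm
    rw [symm_w, symm_D] at h3
    exact h3
  · exact key c hg

/-- the double coset relation -/
def Rel (c : R2 m Y) (x y : Y) : Prop := ∃ b ∈ D c, ∃ b' ∈ D c, x = b * y * b'

theorem Rel.symm {c : R2 m Y} {x y : Y} (h : Rel c x y) : Rel c y x := by
  obtain ⟨b, hb, b', hb', e⟩ := h
  exact ⟨b⁻¹, inv_mem hb, b'⁻¹, inv_mem hb', by rw [e]; group⟩

theorem Rel.trans {c : R2 m Y} {x y z : Y} (h : Rel c x y) (h' : Rel c y z) : Rel c x z := by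
  obtain ⟨b, hb, b', hb', e⟩ := h
  obtain ⟨d, hd, d', hd', e'⟩ := h'
  exact ⟨b * d, mul_mem hb hd, d' * b', mul_mem hd' hb', by rw [e, e']; group⟩

theorem rel_n_w (c : R2 m Y) (ι : Bool) (k : ℕ) : Rel c (n c ι * w c ι (k + 1)) (w c (!ι) k) := by
  refine ⟨1, one_mem _, (w c (!ι) k)⁻¹ * (n c ι * n c ι) * w c (!ι) k, H_le c (w_H c _ k (n_sq c ι)), ?_⟩
  rw [w_succ]
  group

/-- **The cells are distinct.** -/
theorem cell_unique {c : R2 m Y} (hg : Good c) : ∀ l k : ℕ, ∀ ι κ : Bool, l ≤ k → k ≤ m →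
    Rel c (w c κ k) (w c ι l) → k = l ∧ (ι = κ ∨ l = 0 ∨ l = m) := by
  intro l
  induction l with
  | zero =>
    intro k ι κ _ hk h
    obtain ⟨b, hb, b', hb', e⟩ := h
    rw [w_zero, mul_one] at e
    rcases Nat.eq_zero_or_pos k with h0 | h0
    · exact ⟨h0, Or.inr (Or.inl rfl)⟩
    · exact absurd (by rw [e]; exact mul_mem hb hb') (w_not_mem hg κ h0 hk)
  | succ l ih =>
    intro k ι κ hlk hk h
    obtain ⟨b, hb, b', hb', e⟩ := h.symm
    -- `w (!ι) l ~ n ι d w κ k`
    obtain ⟨b1, hb1, w', hw', b1', hb1', e1⟩ := mul_rule c ι (isW c κ hk) hb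
    have h1 : Rel c (w c (!ι) l) w' := by
      refine ⟨(n c ι * n c ι)⁻¹ * b1, mul_mem (inv_mem (H_le c (n_sq c ι))) hb1, b1' * b',
        mul_mem hb1' hb', ?_⟩
      have e2 : (n c ι * n c ι)⁻¹ * b1 * w' * (b1' * b') = (n c ι * n c ι)⁻¹ * (b1 * w' * b1') * b' := by
        group
      rw [e2, ← e1]
      have e3 : (n c ι * n c ι)⁻¹ * (n c ι * b * w c κ k) * b' = (n c ι)⁻¹ * (b * w c κ k * b') := by
        group
      rw [e3, ← e, w_succ]
      group
    rcases hw' with rfl | rfl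
    · have h2 := ih k (!ι) κ (by omega) hk h1.symm
      omega
    · by_cases hκ : κ = ι
      · subst hκ
        obtain ⟨k, rfl⟩ := Nat.exists_eq_add_of_le' (show 1 ≤ k by omega)
        have h2 := (h1.trans (rel_n_w c κ k)).symm
        have h3 := ih k (!κ) (!κ) (by omega) (by omega) h2
        exact ⟨by omega, Or.inl rfl⟩
      · have hκ' : κ = !ι := Bool.eq_not.2 hκ
        subst hκ'
        rcases Nat.lt_or_ge k m with h2 | h2
        · have h3 : Rel c (w c (!ι) l) (w c ι (k + 1)) := by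
            rw [w_succ]; exact h1
          have h4 := ih (k + 1) (!ι) ι (by omega) h2 h3.symm
          omega
        · obtain rfl : k = m := le_antisymm hk h2
          obtain ⟨t, ht, e2⟩ := braid c ι
          obtain ⟨k, rfl⟩ := Nat.exists_eq_add_of_le' (show 1 ≤ k by omega)
          have h3 : Rel c (n c ι * w c (!ι) (k + 1)) (w c (!ι) k) := by
            refine Rel.trans ?_ (rel_n_w c ι k)
            refine ⟨1, one_mem _, t⁻¹, inv_mem (H_le c ht), ?_⟩
            rw [e2]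
            group
          have h4 := ih k (!ι) (!ι) (by omega) (by omega) (h1.trans h3).symm
          exact ⟨by omega, Or.inr (Or.inr (by omega))⟩

/-- products `n d w` with `w` shorter than `n w` -/
theorem up_rule (c : R2 m Y) {k : ℕ} (hk : k < m) {d : Y} (hd : d ∈ D c) :
    Rel c (c.nI * d * w c false k) (w c true (k + 1)) := by
  obtain ⟨u, hu, h, hh, rfl⟩ := mem_D.1 hd
  obtain ⟨v, hv, x, hx, rfl⟩ := seg_decomp c le_rfl c.one_le le_rfl hu
  have h1 := c.core.posI k hk x hx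
  have h2 := nI_seg c le_rfl le_rfl hv
  refine ⟨c.nI * v * c.nI⁻¹, U_le c (seg_le_U c (by omega) (by omega) h2),
    ((w c false k)⁻¹ * x * w c false k) * ((w c false k)⁻¹ * h * w c false k),
    mul_mem (U_le c h1) (H_le c (w_H c false k hh)), ?_⟩
  have e : w c true (k + 1) = c.nI * w c false k := rfl
  rw [e]
  group

section act

variable {Ω : Type v} [MulAction Y Ω]

/-- `o` is a point with stabiliser the Borel subgroup. -/
def Stab (c : R2 m Y) (o : Ω) : Prop := ∀ g : Y, g • o = o ↔ g ∈ D c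

theorem Stab.symm {c : R2 m Y} {o : Ω} (hs : Stab c o) : Stab (symm c) o := by
  intro g
  rw [symm_D]
  exact hs g

theorem smul_eq_iff {a b : Y} {o o' : Ω} : a • o = b • o' ↔ (b⁻¹ * a) • o = o' := by
  rw [mul_smul, inv_smul_eq_iff]

theorem H_smul {c : R2 m Y} {o : Ω} (hs : Stab c o) (ι : Bool) (k : ℕ) {h : Y} (hh : h ∈ c.H) :
    h • w c ι k • o = w c ι k • o := by
  have h1 := (hs _).2 (H_le c (w_H c ι k hh))
  rw [mul_smul, mul_smul, inv_smul_eq_iff] at h1
  exact h1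

theorem n_smul {c : R2 m Y} (o : Ω) (ι : Bool) (k : ℕ) :
    n c ι • w c (!ι) k • o = w c ι (k + 1) • o := by
  rw [w_succ, mul_smul]

theorem n_smul' {c : R2 m Y} {o : Ω} (hs : Stab c o) (ι : Bool) (k : ℕ) :
    n c ι • w c ι (k + 1) • o = w c (!ι) k • o := by
  rw [w_succ, mul_smul, ← mul_smul (n c ι) (n c ι), H_smul hs _ _ (n_sq c ι)]

theorem braid_smul {c : R2 m Y} {o : Ω} (hs : Stab c o) (ι : Bool) : w c ι m • o = w c (!ι) m • o := by
  obtain ⟨h, hh, e⟩ := braid c ι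
  rw [e, mul_smul, (hs h).2 (H_le c hh)]

/-- equal points have related words -/
theorem rel_of_smul_eq {c : R2 m Y} {o : Ω} (hs : Stab c o) {x y u v : Y} (hu : u ∈ D c) (hv : v ∈ D c)
    (h : u • x • o = v • y • o) : Rel c x y := by
  have h1 : (y⁻¹ * v⁻¹ * u * x) • o = o := by
    rw [mul_smul, mul_smul, mul_smul, h]
    simp
  have h2 := (hs _).1 h1
  exact ⟨u⁻¹ * v, mul_mem (inv_mem hu) hv, _, h2, by group⟩

theorem unique_smul {c : R2 m Y} (hg : Good c) {o : Ω} (hs : Stab c o) {ι κ : Bool} {k l : ℕ}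
    (hk : k ≤ m) (hl : l ≤ m) {u v : Y} (hu : u ∈ D c) (hv : v ∈ D c)
    (h : u • w c ι k • o = v • w c κ l • o) : k = l ∧ (ι = κ ∨ k = 0 ∨ k = m) := by
  have h1 := rel_of_smul_eq hs hu hv h
  rcases Nat.le_total l k with h2 | h2
  · obtain ⟨h3, h4⟩ := cell_unique hg l k κ ι h2 hk h1
    subst h3
    refine ⟨rfl, ?_⟩
    rcases h4 with h4 | h4
    · exact Or.inl h4.symm
    · exact Or.inr h4
  · obtain ⟨h3, h4⟩ := cell_unique hg k l ι κ h2 hl h1.symm
    exact ⟨h3.symm, h4⟩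

/-- segments fix -/
theorem seg_smul {c : R2 m Y} {o : Ω} (hs : Stab c o) {k : ℕ} {u : Y} (hu : u ∈ seg c (k + 1) m) :
    u • w c true k • o = w c true k • o := by
  have h1 : seg c (k + 1) m ≤ MulAction.stabilizer Y (w c true k • o) := by
    refine seg_le fun r hr hr' a ha => ?_
    rw [MulAction.mem_stabilizer_iff]
    have h2 := (c.pos_aux k).2 r hr' hr a ha
    have h3 := (hs _).2 (U_le c h2)
    rw [mul_smul, mul_smul, inv_smul_eq_iff] at h3
    exact h3
  exact h1 hu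

theorem seg_smul' {c : R2 m Y} {o : Ω} (hs : Stab c o) {k : ℕ} (hk : k ≤ m) {u : Y}
    (hu : u ∈ seg c 1 (m - k)) : u • w c false k • o = w c false k • o := by
  have h := seg_smul hs.symm (k := k) (u := u) (by
    rw [symm_seg c (by omega) le_rfl]
    have e1 : m + 1 - m = 1 := by omega
    have e2 : m + 1 - (k + 1) = m - k := by omega
    rwa [e1, e2])
  rwa [symm_w] at h

/-- `XI'` fixes `w true k • o` for `1 ≤ k ≤ m` -/
theorem XI'_smul {c : R2 m Y} {o : Ω} (hs : Stab c o) {k : ℕ} (h1 : 1 ≤ k) (h2 : k ≤ m) {b : Y}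
    (hb : b ∈ c.XI') : b • w c true k • o = w c true k • o := by
  obtain ⟨k, rfl⟩ := Nat.exists_eq_add_of_le' h1
  have h3 := U_le c (c.core.posI k (by omega) _ (c.core.sI.nA'_inv b hb))
  have h4 := (hs _).2 h3
  have e : (alt c.core.nJ c.core.nI k)⁻¹ * (c.core.nI⁻¹ * b * c.core.nI) * alt c.core.nJ c.core.nI k =
    (w c true (k + 1))⁻¹ * b * w c true (k + 1) := by
    have e1 : w c true (k + 1) = c.core.nI * alt c.core.nJ c.core.nI k := rfl
    rw [e1]; group
  rw [e, mul_smul, mul_smul, inv_smul_eq_iff] at h4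
  exact h4

theorem seg_inter {c : R2 m Y} (hg : Good c) {r : ℕ} (h1 : 1 ≤ r) (h2 : r ≤ m) {x : Y}
    (hx : x ∈ seg c 1 r) (hx' : x ∈ seg c 2 m) : x ∈ seg c 2 r := by
  obtain ⟨v, hv, y, hy, rfl⟩ := seg_decomp c le_rfl h1 h2 hx
  have h3 : v⁻¹ * (v * y) ∈ seg c 2 m := mul_mem (inv_mem (seg_mono c le_rfl h2 hv)) hx'
  rw [inv_mul_cancel_left] at h3
  have h4 := X1_seg hg hy h3
  subst h4
  simpa using hv

/-- **Stabilisers** in `U` of the points `w true k • o`. -/
theorem stab_true {o : Ω} : ∀ k, k ≤ m → ∀ c : R2 m Y, Good c → Stab c o →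
    ∀ u ∈ c.U, u • w c true k • o = w c true k • o → u ∈ seg c (k + 1) m := by
  intro k
  induction k with
  | zero =>
    intro _ c _ _ u hu _
    exact hu
  | succ k ih =>
    intro hk c hg hs u hu h
    obtain ⟨v, hv, x, hx, rfl⟩ := seg_decomp c le_rfl c.one_le le_rfl hu
    have hv' : c.nI⁻¹ * v * c.nI ∈ seg c 2 m := by
      have h1 := nI_seg_inv c le_rfl le_rfl hv
      have e1 : m + 2 - m = 2 := by omega
      have e2 : m + 2 - 2 = m := by omega
      rwa [e1, e2] at h1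
    have hb : c.nI⁻¹ * x * c.nI ∈ c.XI' := c.core.sI.nA_inv x hx
    -- `v' b` fixes `w false k • o`
    have h1 : ((c.nI⁻¹ * v * c.nI) * (c.nI⁻¹ * x * c.nI)) • w c false k • o = w c false k • o := by
      have e : (c.nI⁻¹ * v * c.nI) * (c.nI⁻¹ * x * c.nI) = c.nI⁻¹ * (v * x) * c.nI := by group
      have e2 : w c true (k + 1) • o = c.nI • w c false k • o := (n_smul o true k).symm
      rw [e2] at h
      rw [e, mul_smul, mul_smul, inv_smul_eq_iff]
      exact h
    have hb1 : c.nI⁻¹ * x * c.nI = 1 := by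
      by_contra hne
      obtain ⟨x1, hx1, h', hh', y1, hy1, e⟩ := c.rank_oneI _ hb hne
      have h2 : Rel c (c.nI * (h' * y1) * w c false k) (w c true (k + 1)) :=
        up_rule c (by omega) (mul_mem (H_le c hh') (U_le c (c.X_le le_rfl c.one_le hy1)))
      have h3 : Rel c (c.nI * (h' * y1) * w c false k) (w c false k) := by
        refine rel_of_smul_eq hs (u := (c.nI⁻¹ * v * c.nI) * x1) (v := 1) ?_ (one_mem _) ?_
        · exact mul_mem (U_le c (seg_le_U c (by norm_num) le_rfl hv')) (U_le c (c.X_le le_rfl c.one_le hx1))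
        · rw [one_smul, ← h1]
          conv_rhs => rw [h1, ← h1]
          rw [e]
          simp only [mul_smul]
      have h4 := cell_unique hg k (k + 1) false true (by omega) (by omega) (h2.symm.trans h3)
      omega
    have hx1 : x = 1 := by
      have e : x = c.nI * (c.nI⁻¹ * x * c.nI) * c.nI⁻¹ := by group
      rw [e, hb1]; group
    subst hx1
    rw [hb1, mul_one] at h1
    have h2 := ih (by omega) (symm c) hg.symm hs.symm (c.nI⁻¹ * v * c.nI) (by
      rw [symm_U]; exact seg_le_U c (by norm_num) le_rfl hv') (by rw [symm_w]; exact h1)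
    rw [symm_seg c (by omega) le_rfl] at h2
    have e1 : m + 1 - m = 1 := by omega
    have e2 : m + 1 - (k + 1) = m - k := by omega
    rw [e1, e2] at h2
    have h3 := seg_inter hg (by omega) (by omega) h2 hv'
    have h4 := nI_seg c le_rfl (by omega) h3
    have e3 : m + 2 - (m - k) = k + 1 + 1 := by omega
    have e4 : m + 2 - 2 = m := by omega
    rw [e3, e4] at h4
    have e5 : c.nI * (c.nI⁻¹ * v * c.nI) * c.nI⁻¹ = v * 1 := by group
    rwa [e5] at h4

theorem stab_false {o : Ω} {k : ℕ} (hk : k ≤ m) {c : R2 m Y} (hg : Good c) (hs : Stab c o) {u : Y}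
    (hu : u ∈ c.U) (h : u • w c false k • o = w c false k • o) : u ∈ seg c 1 (m - k) := by
  have h1 := stab_true k hk (symm c) hg.symm hs.symm u (by rw [symm_U]; exact hu) (by
    rw [symm_w]; exact h)
  rw [symm_seg c (by omega) le_rfl] at h1
  have e1 : m + 1 - m = 1 := by omega
  have e2 : m + 1 - (k + 1) = m - k := by omega
  rwa [e1, e2] at h1

theorem stab_m {o : Ω} {c : R2 m Y} (hg : Good c) (hs : Stab c o) (ι : Bool) {u : Y}
    (hu : u ∈ c.U) (h : u • w c ι m • o = w c ι m • o) : u = 1 := by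
  have h0 : u • w c true m • o = w c true m • o := by
    cases ι
    · rw [braid_smul hs true]; exact h
    · exact h
  have h1 := stab_true m le_rfl c hg hs u hu h0
  rw [seg_eq_bot c (by omega)] at h1
  exact h1

/-- **Bruhat decomposition** for points -/
theorem exists_smul {c : R2 m Y} {o : Ω} (hs : Stab c o) (hgen : c.U ⊔ (c.XI' ⊔ c.XJ') = ⊤) (g : Y) :
    ∃ ι, ∃ k ≤ m, ∃ u ∈ c.U, g • o = u • w c ι k • o := by
  have hg : g ∈ c.U ⊔ c.H ⊔ (c.XI' ⊔ c.XJ') := by
    have h1 : c.U ⊔ (c.XI' ⊔ c.XJ') ≤ c.U ⊔ c.H ⊔ (c.XI' ⊔ c.XJ') :=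
      sup_le_sup_right le_sup_left _
    apply h1
    rw [hgen]
    trivial
  obtain ⟨b, hb, k, hk, b', hb', e⟩ := c.bruhat hg
  obtain ⟨ι, e⟩ : ∃ ι, g = b * w c ι k * b' := by
    rcases e with e | e
    · exact ⟨true, e⟩
    · exact ⟨false, e⟩
  obtain ⟨u, hu, h, hh, rfl⟩ := mem_D.1 hb
  refine ⟨ι, k, hk, u, hu, ?_⟩
  rw [e, mul_smul, mul_smul, (hs b').2 hb', mul_smul, H_smul hs ι k hh]

/-- action of a nontrivial element of `XI'` -/
theorem XI'_act {c : R2 m Y} {o : Ω} (hs : Stab c o) {g : Y} (hg : g ∈ c.XI') (h1 : g ≠ 1) :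
    ∃ x ∈ c.X 1, ∀ k < m, g • w c false k • o = x • w c true (k + 1) • o := by
  obtain ⟨x, hx, h, hh, y, hy, e⟩ := c.rank_oneI g hg h1
  refine ⟨x, hx, fun k hk => ?_⟩
  have h2 : y • w c false k • o = w c false k • o :=
    seg_smul' hs hk.le (X_le_seg c le_rfl (by omega) hy)
  rw [e, mul_smul, mul_smul, mul_smul, h2, H_smul hs false k hh, ← n_smul o true k]
  rfl

/-- every nontrivial `x ∈ X 1` occurs as `g • o = x • w true 1 • o`, `g ∈ XI'` -/
theorem exists_XI' {c : R2 m Y} {o : Ω} (hs : Stab c o) {x : Y} (hx : x ∈ c.X 1) (h1 : x ≠ 1) :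
    ∃ g ∈ c.XI', g • o = x • w c true 1 • o := by
  have hb : c.nI⁻¹ * x * c.nI ∈ c.XI' := c.core.sI.nA_inv x hx
  have hb1 : c.nI⁻¹ * x * c.nI ≠ 1 := by
    intro e
    apply h1
    have e2 : x = c.nI * (c.nI⁻¹ * x * c.nI) * c.nI⁻¹ := by group
    rw [e2, e]; group
  obtain ⟨x1, hx1, h, hh, y, hy, e⟩ := c.rank_oneI _ hb hb1
  refine ⟨c.nI * x1 * c.nI⁻¹, c.nI_pos x1 hx1, ?_⟩
  have e1 : w c true 1 = c.nI := by
    change c.nI * 1 = c.nI
    rw [mul_one]
  rw [e1]
  -- `x nI = nI (x1 nI h y)`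
  have e2 : x * c.nI = c.nI * x1 * c.nI * (h * y) := by
    have e3 : x * c.nI = c.nI * (c.nI⁻¹ * x * c.nI) := by group
    rw [e3, e]; group
  rw [← mul_smul, e2, mul_smul _ (h * y), (hs (h * y)).2 (mul_mem (H_le c hh)
    (U_le c (c.X_le le_rfl c.one_le hy)))]
  -- `nI x1 nI⁻¹ o = nI x1 nI o`
  have h3 : (c.nI * c.nI) • o = o := (hs _).2 (H_le c c.nI_sq)
  have h4 : c.nI⁻¹ • o = c.nI • o := by
    rw [inv_smul_eq_iff, ← mul_smul, h3]
  rw [mul_smul, h4, mul_smul (c.nI * x1) c.nI]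

end act

end Cfsg.Agent.RootSeq.Cell
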