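import Cfsg.Agent.RootSeq.Cell

/-!
# The positive commutator relations determine the group (rank two)

`Pair`: two root data of rank two, `3 ≤ m`, and a subgroup `Θ ≤ G × K` which is the graph of an isomorphism
between the positive parts compatible with the root groups `X 1, …, X m`.  Then `G ≅ K`, if both groups are
simple and generated by their root groups (`Pair.equiv`).
-/

set_option autoImplicit false

namespace Cfsg.Agent.RootSeq.Main

open Cfsg.Agent.TitsThree.RankTwoRGD Cfsg.Agent.TitsThree.RankTwoIdx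
open Cfsg.Agent.RootSeq.Seg Cfsg.Agent.RootSeq.Cell
open scoped commutatorElement

universe u v u' v'

/-! ### The rank one group -/

section rankone

variable {m : ℕ} {Y : Type u} [Group Y]

/-- `z ∈ H · XI'` -/
def IsZ (c : R2 m Y) (z : Y) : Prop := ∃ h ∈ c.H, ∃ b ∈ c.XI', z = h * b

/-- `l ∈ X 1 · Z ∪ nI · Z` -/
def LF (c : R2 m Y) (l : Y) : Prop := ∃ z, IsZ c z ∧ ((∃ x ∈ c.X 1, l = x * z) ∨ l = c.nI * z)

variable {c : R2 m Y}

theorem IsZ.of_H {h : Y} (hh : h ∈ c.H) : IsZ c h := ⟨h, hh, 1, one_mem _, (mul_one _).symm⟩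

theorem IsZ.of_b {b : Y} (hb : b ∈ c.XI') : IsZ c b := ⟨1, one_mem _, b, hb, (one_mul _).symm⟩

theorem IsZ.mul {z z' : Y} (hz : IsZ c z) (hz' : IsZ c z') : IsZ c (z * z') := by
  obtain ⟨h, hh, b, hb, rfl⟩ := hz
  obtain ⟨h', hh', b', hb', rfl⟩ := hz'
  have h1 := c.core.sI.HA' h'⁻¹ (inv_mem hh') b hb
  rw [inv_inv] at h1
  exact ⟨h * h', mul_mem hh hh', h'⁻¹ * b * h' * b', mul_mem h1 hb', by group⟩

theorem LF.X {l x : Y} (hx : x ∈ c.X 1) (hl : LF c l) : LF c (x * l) := by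
  obtain ⟨z, hz, ⟨x', hx', rfl⟩ | rfl⟩ := hl
  · exact ⟨z, hz, Or.inl ⟨x * x', mul_mem hx hx', by group⟩⟩
  · exact ⟨c.nI⁻¹ * x * c.nI * z, (IsZ.of_b (c.core.sI.nA_inv x hx)).mul hz, Or.inr (by group)⟩

theorem LF.H {l h : Y} (hh : h ∈ c.H) (hl : LF c l) : LF c (h * l) := by
  obtain ⟨z, hz, ⟨x', hx', rfl⟩ | rfl⟩ := hl
  · exact ⟨h * z, (IsZ.of_H hh).mul hz, Or.inl ⟨h * x' * h⁻¹, c.core.sI.HA h hh x' hx', by group⟩⟩
  · exact ⟨c.nI⁻¹ * h * c.nI * z, (IsZ.of_H (c.core.sI.nH' h hh)).mul hz, Or.inr (by group)⟩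

theorem LF.n {l : Y} (hl : LF c l) : LF c (c.nI * l) := by
  obtain ⟨z, hz, ⟨x, hx, rfl⟩ | rfl⟩ := hl
  · by_cases h1 : x = 1
    · subst h1
      exact ⟨z, hz, Or.inr (by rw [one_mul])⟩
    · have h2 := c.nI_pos x hx
      have h3 : c.nI * x * c.nI⁻¹ ≠ 1 := by
        intro e
        apply h1
        simpa using e
      obtain ⟨x1, hx1, h, hh, y, hy, e⟩ := c.rank_oneI _ h2 h3
      refine ⟨(c.nI * h * c.nI⁻¹) * (c.nI * c.nI) * (c.nI⁻¹ * y * c.nI) * z,
        (((IsZ.of_H (c.nI_H h hh)).mul (IsZ.of_H c.nI_sq)).mul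
          (IsZ.of_b (c.core.sI.nA_inv y hy))).mul hz, Or.inl ⟨x1, hx1, ?_⟩⟩
      have e2 : c.nI * (x * z) = (c.nI * x * c.nI⁻¹) * c.nI * z := by group
      rw [e2, e]
      group
  · exact ⟨c.nI * c.nI * z, (IsZ.of_H c.nI_sq).mul hz, Or.inl ⟨1, one_mem _, by group⟩⟩

theorem LF.b {l b : Y} (hb : b ∈ c.XI') (hl : LF c l) : LF c (b * l) := by
  by_cases h1 : b = 1
  · subst h1; rwa [one_mul]
  obtain ⟨x, hx, h, hh, y, hy, rfl⟩ := c.rank_oneI b hb h1
  have e : x * c.nI * h * y * l = x * (c.nI * (h * (y * l))) := by group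
  rw [e]
  exact LF.X hx (LF.n (LF.H hh (LF.X hy hl)))

theorem LF.of_X {x : Y} (hx : x ∈ c.X 1) : LF c x :=
  ⟨1, IsZ.of_H (one_mem _), Or.inl ⟨x, hx, (mul_one _).symm⟩⟩

theorem LF.of_n : LF c c.nI := ⟨1, IsZ.of_H (one_mem _), Or.inr (mul_one _).symm⟩

variable {Ω : Type v} [MulAction Y Ω] {o : Ω}

theorem IsZ.smul (hs : Stab c o) {z : Y} (hz : IsZ c z) {k : ℕ} (h1 : 1 ≤ k) (h2 : k ≤ m) :
    z • w c true k • o = w c true k • o := by
  obtain ⟨h, hh, b, hb, rfl⟩ := hz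
  rw [mul_smul, XI'_smul hs h1 h2 hb, H_smul hs true k hh]

theorem IsZ.smul_s (hs : Stab c o) {z : Y} (hz : IsZ c z) (hm : 3 ≤ m) {s : Y} (hs' : s ∈ c.X m) :
    ∃ s' ∈ c.X m, z • s • w c true m • o = s' • w c true m • o := by
  obtain ⟨h, hh, b, hb, rfl⟩ := hz
  refine ⟨h * s * h⁻¹, c.HX h hh m (by omega) le_rfl s hs', ?_⟩
  -- `b` commutes with `s`
  have h1 := XI'_comm c (by omega) le_rfl hb hs'
  rw [seg_eq_bot c (by omega)] at h1
  have h2 : s⁻¹ * (b * s * b⁻¹) = 1 := h1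
  have h3 : b * s = s * b := by
    have h4 : b * s * b⁻¹ = s := (inv_mul_eq_one.1 h2).symm
    calc b * s = (b * s * b⁻¹) * b := by group
      _ = s * b := by rw [h4]
  rw [← mul_smul, mul_assoc, h3, ← mul_assoc, mul_smul, XI'_smul hs (by omega) le_rfl hb]
  have h4 : h⁻¹ • w c true m • o = w c true m • o := H_smul hs true m (inv_mem hh)
  rw [mul_smul (h * s) h⁻¹, h4]

end rankone

/-! ### Pairs -/

/-- Two root data with isomorphic positive parts. -/
structure Pair (m : ℕ) (G : Type u) (K : Type v) [Group G] [Group K] (Ω : Type u') (Ω' : Type v')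
    [MulAction G Ω] [MulAction K Ω'] where
  c : R2 m G
  c' : R2 m K
  o : Ω
  o' : Ω'
  hm : 3 ≤ m
  good : Good c
  good' : Good c'
  stab : Stab c o
  stab' : Stab c' o'
  Θ : Subgroup (G × K)
  ex : ∀ k, 1 ≤ k → k ≤ m → ∀ x ∈ c.X k, ∃ y ∈ c'.X k, (x, y) ∈ Θ
  ex' : ∀ k, 1 ≤ k → k ≤ m → ∀ y ∈ c'.X k, ∃ x ∈ c.X k, (x, y) ∈ Θ
  inj : ∀ y, (1, y) ∈ Θ → y = 1
  inj' : ∀ x, (x, 1) ∈ Θ → x = 1
  le : ∀ x y, (x, y) ∈ Θ → x ∈ c.U ∧ y ∈ c'.U
  tr : ∀ a : Ω, ∃ ι, ∃ k ≤ m, ∃ u ∈ c.U, a = u • w c ι k • o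
  tr' : ∀ a : Ω', ∃ ι, ∃ k ≤ m, ∃ u ∈ c'.U, a = u • w c' ι k • o'

namespace Pair

variable {m : ℕ} {G : Type u} {K : Type v} [Group G] [Group K] {Ω : Type u'} {Ω' : Type v'}
    [MulAction G Ω] [MulAction K Ω'] (P : Pair m G K Ω Ω')

/-- Exchange of `G` and `K`. -/
def swap : Pair m K G Ω' Ω where
  c := P.c'
  c' := P.c
  o := P.o'
  o' := P.o
  hm := P.hm
  good := P.good'
  good' := P.good
  stab := P.stab'
  stab' := P.stab
  Θ := P.Θ.comap (MulEquiv.prodComm : K × G ≃* G × K).toMonoidHom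
  ex := P.ex'
  ex' := P.ex
  inj := P.inj'
  inj' := P.inj
  le := fun x y h => (P.le y x h).symm
  tr := P.tr'
  tr' := P.tr

/-- Exchange of the simple roots. -/
def symm : Pair m G K Ω Ω' where
  c := Seg.symm P.c
  c' := Seg.symm P.c'
  o := P.o
  o' := P.o'
  hm := P.hm
  good := P.good.symm
  good' := P.good'.symm
  stab := P.stab.symm
  stab' := P.stab'.symm
  Θ := P.Θ
  ex := fun k h1 h2 x hx => P.ex (m + 1 - k) (by omega) (by omega) x hx
  ex' := fun k h1 h2 x hx => P.ex' (m + 1 - k) (by omega) (by omega) x hx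
  inj := P.inj
  inj' := P.inj'
  le := fun x y h => by rw [symm_U, symm_U]; exact P.le x y h
  tr := fun a => by
    obtain ⟨ι, k, hk, u, hu, e⟩ := P.tr a
    exact ⟨!ι, k, hk, u, by rw [symm_U]; exact hu, by rw [symm_w, Bool.not_not]; exact e⟩
  tr' := fun a => by
    obtain ⟨ι, k, hk, u, hu, e⟩ := P.tr' a
    exact ⟨!ι, k, hk, u, by rw [symm_U]; exact hu, by rw [symm_w, Bool.not_not]; exact e⟩

theorem mem_swap {x : G} {y : K} : (y, x) ∈ P.swap.Θ ↔ (x, y) ∈ P.Θ := Iff.rfl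

theorem func {x : G} {y y' : K} (h : (x, y) ∈ P.Θ) (h' : (x, y') ∈ P.Θ) : y = y' := by
  have h1 := mul_mem (inv_mem h) h'
  have h2 : ((1 : G), y⁻¹ * y') ∈ P.Θ := by simpa using h1
  exact inv_mul_eq_one.1 (P.inj _ h2)

theorem func' {x x' : G} {y : K} (h : (x, y) ∈ P.Θ) (h' : (x', y) ∈ P.Θ) : x = x' := by
  have h1 := mul_mem (inv_mem h) h'
  have h2 : (x⁻¹ * x', (1 : K)) ∈ P.Θ := by simpa using h1
  exact inv_mul_eq_one.1 (P.inj' _ h2)

theorem ex_seg {a b : ℕ} (h1 : 1 ≤ a) (h2 : b ≤ m) {x : G} (hx : x ∈ seg P.c a b) :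
    ∃ y ∈ seg P.c' a b, (x, y) ∈ P.Θ := by
  have h : seg P.c a b ≤
      (P.Θ ⊓ (seg P.c' a b).comap (MonoidHom.snd G K)).map (MonoidHom.fst G K) := by
    refine seg_le fun k hk hk' x hx => ?_
    obtain ⟨y, hy, h3⟩ := P.ex k (h1.trans hk) (hk'.trans h2) x hx
    exact ⟨(x, y), ⟨h3, X_le_seg P.c' hk hk' hy⟩, rfl⟩
  obtain ⟨⟨x', y⟩, ⟨h3, h4⟩, h5⟩ := h hx
  have h6 : x' = x := h5
  subst h6
  exact ⟨y, h4, h3⟩

theorem mem_seg {a b : ℕ} (h1 : 1 ≤ a) (h2 : b ≤ m) {x : G} {y : K} (h : (x, y) ∈ P.Θ)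
    (hx : x ∈ seg P.c a b) : y ∈ seg P.c' a b := by
  obtain ⟨y', hy', h3⟩ := P.ex_seg h1 h2 hx
  rw [P.func h h3]
  exact hy'

theorem mem_X {k : ℕ} (h1 : 1 ≤ k) (h2 : k ≤ m) {x : G} {y : K} (h : (x, y) ∈ P.Θ)
    (hx : x ∈ P.c.X k) : y ∈ P.c'.X k := by
  obtain ⟨y', hy', h3⟩ := P.ex k h1 h2 x hx
  rw [P.func h h3]
  exact hy'

/-- The relation between the points of `Ω` and `Ω'`. -/
def FR (a : Ω) (b : Ω') : Prop :=
  ∃ ι, ∃ k ≤ m, ∃ x y, (x, y) ∈ P.Θ ∧ a = x • w P.c ι k • P.o ∧ b = y • w P.c' ι k • P.o'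

theorem FR_swap {a : Ω} {b : Ω'} : P.swap.FR b a ↔ P.FR a b := by
  constructor
  · rintro ⟨ι, k, hk, x, y, h, e, e'⟩
    exact ⟨ι, k, hk, y, x, h, e', e⟩
  · rintro ⟨ι, k, hk, x, y, h, e, e'⟩
    exact ⟨ι, k, hk, y, x, h, e', e⟩

theorem FR_symm {a : Ω} {b : Ω'} : P.symm.FR a b ↔ P.FR a b := by
  constructor
  · rintro ⟨ι, k, hk, x, y, h, e, e'⟩
    exact ⟨!ι, k, hk, x, y, h, by rw [e, ← symm_w]; rfl, by rw [e', ← symm_w]; rfl⟩
  · rintro ⟨ι, k, hk, x, y, h, e, e'⟩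
    refine ⟨!ι, k, hk, x, y, h, ?_, ?_⟩
    · rw [e]
      change _ = x • w (Seg.symm P.c) (!ι) k • P.o
      rw [symm_w, Bool.not_not]
    · rw [e']
      change _ = y • w (Seg.symm P.c') (!ι) k • P.o'
      rw [symm_w, Bool.not_not]

theorem FR_base (ι : Bool) {k : ℕ} (hk : k ≤ m) : P.FR (w P.c ι k • P.o) (w P.c' ι k • P.o') :=
  ⟨ι, k, hk, 1, 1, one_mem P.Θ, (one_smul _ _).symm, (one_smul _ _).symm⟩

theorem FR_smul {x : G} {y : K} (h : (x, y) ∈ P.Θ) {a : Ω} {b : Ω'} (hab : P.FR a b) :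
    P.FR (x • a) (y • b) := by
  obtain ⟨ι, k, hk, x', y', h', rfl, rfl⟩ := hab
  exact ⟨ι, k, hk, x * x', y * y', mul_mem h h', (mul_smul _ _ _).symm, (mul_smul _ _ _).symm⟩

theorem FR_total (a : Ω) : ∃ b, P.FR a b := by
  obtain ⟨ι, k, hk, u, hu, rfl⟩ := P.tr a
  obtain ⟨y, _, h⟩ := P.ex_seg le_rfl le_rfl hu
  exact ⟨_, P.FR_smul h (P.FR_base ι hk)⟩

theorem FR_func {a : Ω} {b b' : Ω'} (h : P.FR a b) (h' : P.FR a b') : b = b' := by
  obtain ⟨ι, k, hk, x, y, h1, e1, rfl⟩ := h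
  obtain ⟨κ, l, hl, x', y', h2, e2, rfl⟩ := h'
  rw [e1] at e2
  have hx := U_le P.c (P.le x y h1).1
  have hx' := U_le P.c (P.le x' y' h2).1
  have h3 : (x'⁻¹ * x, y'⁻¹ * y) ∈ P.Θ := mul_mem (inv_mem h2) h1
  obtain ⟨hkl, h4⟩ := unique_smul P.good P.stab hk hl hx hx' e2
  subst hkl
  rcases h4 with rfl | rfl | rfl
  · -- same word
    rw [smul_eq_iff] at e2
    have key : ∀ P : Pair m G K Ω Ω', ∀ x y, (x, y) ∈ P.Θ → x • w P.c true k • P.o = w P.c true k • P.o →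
        y • w P.c' true k • P.o' = w P.c' true k • P.o' := by
      intro P x y h1 h2
      have h3 := stab_true k hk P.c P.good P.stab x (P.le x y h1).1 h2
      exact seg_smul P.stab' (P.mem_seg (by omega) le_rfl h1 h3)
    have h5 : (y'⁻¹ * y) • w P.c' ι k • P.o' = w P.c' ι k • P.o' := by
      cases ι
      · have h6 := key P.symm _ _ h3 (by
          change _ • w (Seg.symm P.c) true k • P.o = w (Seg.symm P.c) true k • P.o
          rw [symm_w]; exact e2)
        change _ • w (Seg.symm P.c') true k • P.o' = w (Seg.symm P.c') true k • P.o' at h6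
        rw [symm_w] at h6
        exact h6
      · exact key P _ _ h3 e2
    rw [smul_eq_iff]
    exact h5
  · -- `k = 0`
    rw [w_zero, w_zero, one_smul]
    have h5 := (P.stab' y).2 (U_le P.c' (P.le x y h1).2)
    have h6 := (P.stab' y').2 (U_le P.c' (P.le x' y' h2).2)
    rw [h5, h6]
  · -- `k = m`
    have e3 : w P.c κ k • P.o = w P.c ι k • P.o := by
      by_cases h5 : κ = ι
      · rw [h5]
      · rw [Bool.eq_not.2 h5]
        exact (braid_smul P.stab ι).symm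
    have e4 : w P.c' κ k • P.o' = w P.c' ι k • P.o' := by
      by_cases h5 : κ = ι
      · rw [h5]
      · rw [Bool.eq_not.2 h5]
        exact (braid_smul P.stab' ι).symm
    rw [e3, smul_eq_iff] at e2
    have h5 : x'⁻¹ * x = 1 := stab_m P.good P.stab ι (P.le _ _ h3).1 e2
    rw [h5] at h3
    have h6 := P.inj _ h3
    rw [e4, inv_mul_eq_one.1 h6]

theorem FR_inj {a a' : Ω} {b : Ω'} (h : P.FR a b) (h' : P.FR a' b) : a = a' :=
  P.swap.FR_func (P.FR_swap.2 h) (P.FR_swap.2 h')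

/-! ### Partners of the elements of `XI'` -/

/-- The relation between elements of the rank one groups. -/
def LR (l : G) (l' : K) : Prop :=
  (∀ j, 1 ≤ j → j ≤ m → P.FR (l • w P.c true j • P.o) (l' • w P.c' true j • P.o')) ∧
  (∀ s ∈ P.c.X m, ∃ s' ∈ P.c'.X m, P.FR (l • s • w P.c true m • P.o) (l' • s' • w P.c' true m • P.o'))

theorem nI_w {Y : Type u} [Group Y] {Ω : Type u'} [MulAction Y Ω] {c : R2 m Y} {o : Ω} (hs : Stab c o)
    {j : ℕ} (h1 : 1 ≤ j) : c.nI • w c true j • o = w c false (j - 1) • o := by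
  obtain ⟨j, rfl⟩ := Nat.exists_eq_add_of_le' h1
  exact n_smul' hs true j

theorem exists_LR {l : G} (hl : LF P.c l) : ∃ l', LF P.c' l' ∧ P.LR l l' := by
  have hm := P.hm
  obtain ⟨z, hz, ⟨x, hx, rfl⟩ | rfl⟩ := hl
  · obtain ⟨y, hy, h⟩ := P.ex 1 le_rfl (by omega) x hx
    refine ⟨y, LF.of_X hy, fun j h1 h2 => ?_, fun s hs => ?_⟩
    · rw [mul_smul, hz.smul P.stab h1 h2]
      exact P.FR_smul h (P.FR_base true h2)
    · obtain ⟨s1, hs1, e⟩ := hz.smul_s P.stab hm hs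
      obtain ⟨s', hs', h'⟩ := P.ex m (by omega) le_rfl s1 hs1
      refine ⟨s', hs', ?_⟩
      rw [mul_smul, e]
      exact P.FR_smul h (P.FR_smul h' (P.FR_base true le_rfl))
  · refine ⟨P.c'.nI, LF.of_n, fun j h1 h2 => ?_, fun s hs => ?_⟩
    · rw [mul_smul, hz.smul P.stab h1 h2, nI_w P.stab h1, nI_w P.stab' h1]
      exact P.FR_base false (by omega)
    · obtain ⟨s1, hs1, e⟩ := hz.smul_s P.stab hm hs
      have h3 := P.c.nI_X m (by omega) le_rfl s1 hs1
      have e1 : m + 2 - m = 2 := by omega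
      rw [e1] at h3
      obtain ⟨v', hv', h'⟩ := P.ex 2 (by omega) (by omega) _ h3
      have h4 := P.c'.nI_X_inv (k := 2) le_rfl (by omega) hv'
      have e2 : m + 2 - 2 = m := by omega
      rw [e2] at h4
      refine ⟨P.c'.nI⁻¹ * v' * P.c'.nI, h4, ?_⟩
      have e3 : (P.c.nI * z) • s • w P.c true m • P.o =
          (P.c.nI * s1 * P.c.nI⁻¹) • w P.c false (m - 1) • P.o := by
        rw [mul_smul, e, ← nI_w P.stab (j := m) (by omega)]
        simp only [mul_smul, inv_smul_smul]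
      have e4 : P.c'.nI • (P.c'.nI⁻¹ * v' * P.c'.nI) • w P.c' true m • P.o' =
          v' • w P.c' false (m - 1) • P.o' := by
        rw [← nI_w P.stab' (j := m) (by omega)]
        simp only [mul_smul, smul_inv_smul]
      rw [e3, e4]
      exact P.FR_smul h' (P.FR_base false (by omega))

/-- `w true 1 • o ≠ o`, in the form used -/
theorem x_ne {Y : Type u} [Group Y] {Ω : Type u'} [MulAction Y Ω] {c : R2 m Y} (hg : Good c) {o : Ω}
    (hs : Stab c o) {x : Y} (hx : x ∈ D c) : x • w c true 1 • o ≠ o := by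
  intro h
  rw [← mul_smul] at h
  have h1 := (hs _).1 h
  have h2 := mul_mem (inv_mem hx) h1
  rw [inv_mul_cancel_left] at h2
  exact w_not_mem hg true le_rfl c.one_le h2

/-- **Main lemma**: every nontrivial element of `XI'` has a partner. -/
theorem partner {g : G} (hg : g ∈ P.c.XI') (hg1 : g ≠ 1) :
    ∃ k : K, ∀ a b, P.FR a b → P.FR (g • a) (k • b) := by
  have hm := P.hm
  obtain ⟨x0, hx0, hx0'⟩ := XI'_act P.stab hg hg1
  obtain ⟨y0, hy0, h0⟩ := P.ex 1 le_rfl (by omega) x0 hx0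
  have hgo : g • P.o = x0 • w P.c true 1 • P.o := by
    have h := hx0' 0 (by omega)
    rwa [w_zero, one_smul] at h
  have hx01 : x0 ≠ 1 := by
    rintro rfl
    rw [one_smul] at hgo
    have h1 := XI'_smul P.stab le_rfl (by omega) hg
    rw [← hgo] at h1
    have h2 := MulAction.injective g h1
    apply x_ne P.good P.stab (one_mem _)
    rw [one_smul, ← hgo]
    exact h2
  have hy01 : y0 ≠ 1 := by
    rintro rfl
    exact hx01 (P.inj' _ h0)
  obtain ⟨k, hk, hko⟩ := exists_XI' P.stab' hy0 hy01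
  have hk1 : k ≠ 1 := by
    rintro rfl
    rw [one_smul] at hko
    exact x_ne P.good' P.stab' (U_le _ (P.c'.X_le le_rfl P.c'.one_le hy0)) hko.symm
  obtain ⟨y2, hy2, hy2'⟩ := XI'_act P.stab' hk hk1
  have hy20 : y2 = y0 := by
    have h := hy2' 0 (by omega)
    rw [w_zero, one_smul, hko] at h
    rw [smul_eq_iff] at h
    have h1 : y2⁻¹ * y0 ∈ P.c'.X 1 := mul_mem (inv_mem hy2) hy0
    have h2 := stab_true 1 (by omega) P.c' P.good' P.stab' _ (P.c'.X_le le_rfl P.c'.one_le h1) h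
    exact inv_mul_eq_one.1 (X1_seg P.good' h1 h2)
  subst hy20
  -- (1)
  have one : ∀ j < m, P.FR (g • w P.c false j • P.o) (k • w P.c' false j • P.o') := by
    intro j hj
    rw [hx0' j hj, hy2' j hj]
    exact P.FR_smul h0 (P.FR_base true hj)
  have one_o : P.FR (g • P.o) (k • P.o') := by
    have h := one 0 (by omega)
    simpa using h
  -- (2)
  have two : ∀ r, 2 ≤ r → r ≤ m → ∀ v v', (v, v') ∈ P.Θ → v ∈ P.c.X r →
      (g * v * g⁻¹, k * v' * k⁻¹) ∈ P.Θ := by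
    intro r hr1 hr2 v v' hvv hv
    have hv' := P.mem_X (by omega) hr2 hvv hv
    have h1 : g * v * g⁻¹ ∈ seg P.c 2 m := XI'_seg P.c le_rfl hg (X_le_seg P.c hr1 hr2 hv)
    obtain ⟨t, ht, htt⟩ := P.ex_seg (by norm_num) le_rfl h1
    have h2 : (v⁻¹ * (g * v * g⁻¹), v'⁻¹ * t) ∈ P.Θ := mul_mem (inv_mem hvv) htt
    have h3 := P.mem_seg (by omega) le_rfl h2 (XI'_comm P.c hr1 hr2 hg hv)
    -- `t1 = k⁻¹ t k`
    have h4 : v'⁻¹ * (k⁻¹ * t * k) ∈ seg P.c' (r + 1) m := by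
      have h5 := XI'_comm P.c' hr1 hr2 (inv_mem hk) hv'
      have h6 := XI'_seg P.c' (r := r + 1) (by omega) (inv_mem hk) h3
      rw [inv_inv] at h5 h6
      have e : v'⁻¹ * (k⁻¹ * t * k) = v'⁻¹ * (k⁻¹ * v' * k) * (k⁻¹ * (v'⁻¹ * t) * k) := by group
      rw [e]
      exact mul_mem h5 h6
    have h5 : (k⁻¹ * t * k) ∈ P.c'.U := by
      have h6 := XI'_seg P.c' (r := 2) le_rfl (inv_mem hk) ht
      rw [inv_inv] at h6
      exact seg_le_U P.c' (by norm_num) le_rfl h6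
    have h6 : (k⁻¹ * t * k) • w P.c' false (m - r) • P.o' = w P.c' false (m - r) • P.o' := by
      have h7 := one (m - r) (by omega)
      have h8 := P.FR_smul htt h7
      have h9 : v • w P.c false (m - r) • P.o = w P.c false (m - r) • P.o := by
        apply seg_smul' P.stab (by omega)
        have e : m - (m - r) = r := by omega
        rw [e]
        exact X_le_seg P.c (by omega) le_rfl hv
      have e : (g * v * g⁻¹) • g • w P.c false (m - r) • P.o = g • w P.c false (m - r) • P.o := by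
        rw [mul_smul, inv_smul_smul, mul_smul, h9]
      rw [e] at h8
      have h10 := P.FR_func h8 h7
      rw [mul_smul, mul_smul, inv_smul_eq_iff]
      exact h10
    have h7 := stab_false (by omega) P.good' P.stab' h5 h6
    have e : m - (m - r) = r := by omega
    rw [e] at h7
    have h8 : v'⁻¹ * (k⁻¹ * t * k) ∈ seg P.c' 1 r :=
      mul_mem (inv_mem (X_le_seg P.c' (by omega) le_rfl hv')) h7
    have h9 := seg_inf P.good' r hr2 _ h8 h4
    have h10 : k * v' * k⁻¹ = t := by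
      have h11 : v' = k⁻¹ * t * k := inv_mul_eq_one.1 h9
      rw [h11]; group
    rw [h10]
    exact htt
  have two' : ∀ v ∈ seg P.c 2 m, ∀ v', (v, v') ∈ P.Θ → (g * v * g⁻¹, k * v' * k⁻¹) ∈ P.Θ := by
    have h1 : seg P.c 2 m ≤
        (P.Θ ⊓ P.Θ.comap (MulAut.conj (g, k)).toMonoidHom).map (MonoidHom.fst G K) := by
      refine seg_le fun r hr hr' v hv => ?_
      obtain ⟨v', hv', h⟩ := P.ex r (by omega) hr' v hv
      exact ⟨(v, v'), ⟨h, two r hr hr' v v' h hv⟩, rfl⟩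
    intro v hv v' hvv
    obtain ⟨⟨x, y⟩, ⟨h2, h3⟩, h4⟩ := h1 hv
    have h5 : x = v := h4
    subst h5
    rw [P.func hvv h2]
    exact h3
  -- (4)
  have four : ∀ x ∈ P.c.X 1, ∀ y, (x, y) ∈ P.Θ → ∀ j, 1 ≤ j → j ≤ m →
      P.FR (g • x • w P.c true j • P.o) (k • y • w P.c' true j • P.o') := by
    intro x hx y hxy
    have hy := P.mem_X le_rfl (by omega) hxy hx
    obtain ⟨l', hl', h1, h2⟩ := P.exists_LR (LF.b hg (LF.of_X hx))
    obtain ⟨z, hz, ⟨y1, hy1, e⟩ | e⟩ := LF.b (inv_mem hk) hl'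
    · -- `k⁻¹ l' = y1 z`
      have e' : l' = k * (y1 * z) := by rw [← e]; group
      have h3 : ∀ j, 1 ≤ j → j ≤ m →
          P.FR (g • x • w P.c true j • P.o) (k • y1 • w P.c' true j • P.o') := by
        intro j hj hj'
        have h4 := h1 j hj hj'
        rw [mul_smul, e', mul_smul, mul_smul, hz.smul P.stab' hj hj'] at h4
        exact h4
      have h5 : y1⁻¹ * y = 1 := by
        apply eq_one_of_comm P.good' hm (mul_mem (inv_mem hy1) hy)
        intro s1 hs1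
        obtain ⟨s, hs, hss⟩ := P.ex' m (by omega) le_rfl s1 hs1
        obtain ⟨s', hs', h6⟩ := h2 s hs
        obtain ⟨s'', hs'', e2⟩ := hz.smul_s P.stab' hm hs'
        rw [mul_smul, e', mul_smul, mul_smul, e2] at h6
        -- second computation
        have h7 : x * s * x⁻¹ ∈ seg P.c 2 m :=
          X_conj_seg P.c le_rfl le_rfl hx (X_le_seg P.c (by omega) le_rfl hs)
        have h8 : (x * s * x⁻¹, y * s1 * y⁻¹) ∈ P.Θ := mul_mem (mul_mem hxy hss) (inv_mem hxy)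
        have h9 := P.FR_smul (two' _ h7 _ h8) (h3 m (by omega) le_rfl)
        have e3 : (g * (x * s * x⁻¹) * g⁻¹) • g • x • w P.c true m • P.o =
            g • x • s • w P.c true m • P.o := by
          simp only [mul_smul, inv_smul_smul]
        rw [e3] at h9
        have h10 := P.FR_func h9 h6
        have h11 : (k * (y * s1 * y⁻¹) * k⁻¹ * k * y1) • w P.c' true m • P.o' =
            (k * y1 * s'') • w P.c' true m • P.o' := by
          simpa only [mul_smul] using h10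
        rw [smul_eq_iff] at h11
        have e4 : (k * y1 * s'')⁻¹ * (k * (y * s1 * y⁻¹) * k⁻¹ * k * y1) =
            s''⁻¹ * (y1⁻¹ * y * s1 * (y1⁻¹ * y)⁻¹) := by group
        rw [e4] at h11
        have hU : s''⁻¹ * (y1⁻¹ * y * s1 * (y1⁻¹ * y)⁻¹) ∈ P.c'.U := by
          have a1 := P.c'.X_le P.c'.one_le le_rfl hs''
          have a2 := P.c'.X_le le_rfl P.c'.one_le hy1
          have a3 := P.c'.X_le le_rfl P.c'.one_le hy
          have a4 := P.c'.X_le P.c'.one_le le_rfl hs1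
          have a5 := mul_mem (inv_mem a2) a3
          exact mul_mem (inv_mem a1) (mul_mem (mul_mem a5 a4) (inv_mem a5))
        have h12 := stab_m P.good' P.stab' true hU h11
        rw [← inv_mul_eq_one.1 h12]
        exact hs''
      have h6 : y1 = y := inv_mul_eq_one.1 h5
      rw [← h6]
      exact h3
    · -- `k⁻¹ l' = nI z`: impossible
      exfalso
      have e' : l' = k * (P.c'.nI * z) := by rw [← e]; group
      have h3 := h1 1 le_rfl (by omega)
      rw [mul_smul, e', mul_smul, mul_smul, hz.smul P.stab' le_rfl (by omega),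
        nI_w P.stab' le_rfl, w_zero, one_smul] at h3
      have h4 := MulAction.injective g (P.FR_inj h3 one_o)
      exact x_ne P.good P.stab (U_le _ (P.c.X_le le_rfl P.c.one_le hx)) h4
  -- conclusion
  refine ⟨k, fun a b hab => ?_⟩
  obtain ⟨ι, j, hj, u, u', huu, rfl, rfl⟩ := hab
  obtain ⟨v, hv, x, hx, rfl⟩ := seg_decomp P.c le_rfl P.c.one_le le_rfl (P.le _ _ huu).1
  obtain ⟨y, hy, hxy⟩ := P.ex 1 le_rfl P.c.one_le x hx
  obtain ⟨v', hv', hvv⟩ := P.ex_seg (by norm_num) le_rfl hv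
  have e : u' = v' * y := P.func huu (mul_mem hvv hxy)
  subst e
  have fin : ∀ a b, P.FR (g • x • a) (k • y • b) → P.FR (g • (v * x) • a) (k • (v' * y) • b) := by
    intro a b h
    have h1 := P.FR_smul (two' v hv v' hvv) h
    simpa only [mul_smul, inv_smul_smul] using h1
  apply fin
  have hfalse : ∀ j < m, P.FR (g • x • w P.c false j • P.o) (k • y • w P.c' false j • P.o') := by
    intro j hj
    rw [seg_smul' P.stab hj.le (X_le_seg P.c le_rfl (by omega) hx),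
      seg_smul' P.stab' hj.le (X_le_seg P.c' le_rfl (by omega) hy)]
    exact one j hj
  cases ι
  · rcases Nat.lt_or_ge j m with h1 | h1
    · exact hfalse j h1
    · obtain rfl : j = m := le_antisymm hj h1
      rw [braid_smul P.stab false, braid_smul P.stab' false]
      exact four x hx y hxy j (by omega) le_rfl
  · rcases Nat.eq_zero_or_pos j with rfl | h1
    · have h2 := hfalse 0 (by omega)
      rw [w_zero, w_zero] at h2 ⊢
      exact h2
    · exact four x hx y hxy j h1 hj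

end Pair

end Cfsg.Agent.RootSeq.Main
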