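import Cfsg.Agent.TitsThree.RankTwoIdent

/-!
# Segments of root groups in a rank two root datum

`seg c a b`: the subgroup generated by `X a, …, X b`.  `symm c`: the root datum with the two simple roots
exchanged.  `Good c`: the two reflections do not lie in the Borel subgroup.  Main results: unique
decomposition (`seg_inf`), triviality of the centraliser of `X m` in `X 1` for `3 ≤ m` (`eq_one_of_comm`).
-/

set_option autoImplicit false

namespace Cfsg.Agent.RootSeq.Seg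

open Cfsg.Agent.TitsThree.RankTwoRGD Cfsg.Agent.TitsThree.RankTwoIdx
open scoped commutatorElement

universe u

variable {m : ℕ} {Y : Type u} [Group Y]

/-- The subgroup generated by `X a, …, X b`. -/
def seg (c : R2 m Y) (a b : ℕ) : Subgroup Y := ⨆ k ∈ Set.Icc a b, c.X k

theorem X_le_seg (c : R2 m Y) {a b k : ℕ} (h1 : a ≤ k) (h2 : k ≤ b) : c.X k ≤ seg c a b :=
  le_iSup₂_of_le k ⟨h1, h2⟩ le_rfl

theorem seg_le {c : R2 m Y} {a b : ℕ} {P : Subgroup Y} (h : ∀ k, a ≤ k → k ≤ b → c.X k ≤ P) :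
    seg c a b ≤ P := iSup₂_le fun k hk => h k hk.1 hk.2

theorem seg_mono (c : R2 m Y) {a b a' b' : ℕ} (h1 : a' ≤ a) (h2 : b ≤ b') : seg c a b ≤ seg c a' b' :=
  seg_le fun _ hk hk' => X_le_seg c (h1.trans hk) (hk'.trans h2)

theorem seg_eq_bot (c : R2 m Y) {a b : ℕ} (h : b < a) : seg c a b = ⊥ :=
  le_antisymm (seg_le fun _ hk hk' => absurd (hk.trans hk') (not_le.2 h)) bot_le

theorem seg_self (c : R2 m Y) (a : ℕ) : seg c a a = c.X a :=
  le_antisymm (seg_le fun k hk hk' => by rw [le_antisymm hk' hk]) (X_le_seg c le_rfl le_rfl)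

theorem U_eq (c : R2 m Y) : c.U = seg c 1 m := rfl

theorem seg_le_U (c : R2 m Y) {a b : ℕ} (h1 : 1 ≤ a) (h2 : b ≤ m) : seg c a b ≤ c.U :=
  seg_mono c h1 h2

/-- conjugation of a segment -/
theorem conj_seg {c : R2 m Y} {a b : ℕ} {P : Subgroup Y} {g : Y}
    (h : ∀ k, a ≤ k → k ≤ b → ∀ x ∈ c.X k, g * x * g⁻¹ ∈ P) : ∀ x ∈ seg c a b, g * x * g⁻¹ ∈ P :=
  R2.conj_iSup fun k hk x hx => h k hk.1 hk.2 x hx

theorem nI_seg (c : R2 m Y) {a b : ℕ} (h1 : 2 ≤ a) (h2 : b ≤ m) {x : Y} (hx : x ∈ seg c a b) :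
    c.nI * x * c.nI⁻¹ ∈ seg c (m + 2 - b) (m + 2 - a) :=
  conj_seg (fun k hk hk' x hx =>
    X_le_seg c (by omega) (by omega) (c.nI_X k (h1.trans hk) (hk'.trans h2) x hx)) x hx

theorem nI_seg_inv (c : R2 m Y) {a b : ℕ} (h1 : 2 ≤ a) (h2 : b ≤ m) {x : Y} (hx : x ∈ seg c a b) :
    c.nI⁻¹ * x * c.nI ∈ seg c (m + 2 - b) (m + 2 - a) := by
  have h := conj_seg (g := c.nI⁻¹) (P := seg c (m + 2 - b) (m + 2 - a)) (fun k hk hk' x hx => by
    rw [inv_inv]
    exact X_le_seg c (by omega) (by omega) (c.nI_X_inv (h1.trans hk) (hk'.trans h2) hx)) x hx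
  rwa [inv_inv] at h

theorem H_seg (c : R2 m Y) {a b : ℕ} (h1 : 1 ≤ a) (h2 : b ≤ m) {h : Y} (hh : h ∈ c.H) {x : Y}
    (hx : x ∈ seg c a b) : h * x * h⁻¹ ∈ seg c a b :=
  conj_seg (fun k hk hk' x hx =>
    X_le_seg c hk hk' (c.HX h hh k (h1.trans hk) (hk'.trans h2) x hx)) x hx

/-- commutators of root elements -/
theorem comm_mem (c : R2 m Y) {k l : ℕ} (h1 : 1 ≤ k) (h2 : k < l) (h3 : l ≤ m) {x y : Y}
    (hx : x ∈ c.X k) (hy : y ∈ c.X l) : ⁅x, y⁆ ∈ seg c (k + 1) (l - 1) := by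
  refine (iSup₂_le fun r hr => ?_ : (⨆ r ∈ Set.Ioo k l, c.X r) ≤ _) (c.comm k l h1 h2 h3 x hx y hy)
  exact X_le_seg c hr.1 (by have := hr.2; omega)

/-- `X a` normalises `seg (a+1) b` -/
theorem X_conj_seg (c : R2 m Y) {a b : ℕ} (h1 : 1 ≤ a) (h2 : b ≤ m) {x : Y} (hx : x ∈ c.X a) {v : Y}
    (hv : v ∈ seg c (a + 1) b) : x * v * x⁻¹ ∈ seg c (a + 1) b := by
  refine conj_seg (fun k hk hk' y hy => ?_) v hv
  have h3 := comm_mem c h1 hk (hk'.trans h2) hx hy
  have e : x * y * x⁻¹ = ⁅x, y⁆ * y := by rw [commutatorElement_def]; group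
  rw [e]
  exact mul_mem (seg_mono c le_rfl (by omega) h3) (X_le_seg c hk hk' hy)

theorem seg_eq (c : R2 m Y) {a b : ℕ} (h : a ≤ b) : seg c a b = seg c (a + 1) b ⊔ c.X a := by
  apply le_antisymm
  · refine seg_le fun k hk hk' => ?_
    rcases Nat.lt_or_ge a k with h1 | h1
    · exact (X_le_seg c h1 hk').trans le_sup_left
    · rw [le_antisymm h1 hk]; exact le_sup_right
  · exact sup_le (seg_mono c (by omega) le_rfl) (X_le_seg c le_rfl h)

/-- `seg a b = seg (a+1) b · X a` -/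
theorem seg_decomp (c : R2 m Y) {a b : ℕ} (h1 : 1 ≤ a) (h : a ≤ b) (h2 : b ≤ m) {u : Y}
    (hu : u ∈ seg c a b) : ∃ v ∈ seg c (a + 1) b, ∃ x ∈ c.X a, u = v * x := by
  rw [seg_eq c h] at hu
  exact R2.decomp_aux (fun x hx v hv => X_conj_seg c h1 h2 hx hv) hu

/-- Exchange of the two simple roots. -/
def symm (c : R2 m Y) : R2 m Y where
  X := fun k => c.X (m + 1 - k)
  XI' := c.XJ'
  XJ' := c.XI'
  H := c.H
  nI := c.nJ
  nJ := c.nI
  one_le := c.one_le
  comm := by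
    intro k l h1 h2 h3 x hx y hy
    have h4 := c.comm (m + 1 - l) (m + 1 - k) (by omega) (by omega) (by omega) y hy x hx
    have h5 : ⁅x, y⁆ = ⁅y, x⁆⁻¹ := (commutatorElement_inv y x).symm
    rw [h5]
    refine inv_mem ((iSup₂_le fun r hr => ?_ : (⨆ r ∈ Set.Ioo (m + 1 - l) (m + 1 - k), c.X r) ≤ _) h4)
    have hr1 := hr.1
    have hr2 := hr.2
    have e : m + 1 - (m + 1 - r) = r := by omega
    refine le_iSup₂_of_le (m + 1 - r) ⟨by omega, by omega⟩ ?_
    rw [e]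
  HX := fun h hh k h1 h2 x hx => c.HX h hh _ (by omega) (by omega) x hx
  nI_X := by
    intro k h1 h2 x hx
    have h3 := c.nJ_X (m + 1 - k) (by omega) (by omega) x hx
    have e : m - (m + 1 - k) = m + 1 - (m + 2 - k) := by omega
    rwa [e] at h3
  nJ_X := by
    intro k h1 h2 x hx
    have h3 := c.nI_X (m + 1 - k) (by omega) (by omega) x hx
    have e : m + 2 - (m + 1 - k) = m + 1 - (m - k) := by omega
    rwa [e] at h3
  nI_pos := by
    intro x hx
    have e : m + 1 - 1 = m := by omega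
    rw [e] at hx
    exact c.nJ_pos x hx
  nI_neg := by
    intro x hx
    have e : m + 1 - 1 = m := by omega
    rw [e]
    exact c.nJ_neg x hx
  nJ_pos := by
    intro x hx
    have e : m + 1 - m = 1 := by omega
    rw [e] at hx
    exact c.nI_pos x hx
  nJ_neg := by
    intro x hx
    have e : m + 1 - m = 1 := by omega
    rw [e]
    exact c.nI_neg x hx
  nI_sq := c.nJ_sq
  nJ_sq := c.nI_sq
  nI_H := c.nJ_H
  nJ_H := c.nI_H
  rank_oneI := by
    have e : m + 1 - 1 = m := by omega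
    rw [e]
    exact c.rank_oneJ
  rank_oneJ := by
    have e : m + 1 - m = 1 := by omega
    rw [e]
    exact c.rank_oneI
  memI := by
    have e : m + 1 - 1 = m := by omega
    rw [e]
    exact c.memJ
  memJ := by
    have e : m + 1 - m = 1 := by omega
    rw [e]
    exact c.memI
  braid := by
    obtain ⟨h, hh, e⟩ := c.braid
    exact ⟨h⁻¹, c.H.inv_mem hh, by rw [e]; group⟩

theorem symm_X (c : R2 m Y) (k : ℕ) : (symm c).X k = c.X (m + 1 - k) := rfl

theorem symm_seg (c : R2 m Y) {a b : ℕ} (h1 : 1 ≤ a) (h2 : b ≤ m) :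
    seg (symm c) a b = seg c (m + 1 - b) (m + 1 - a) := by
  apply le_antisymm
  · exact seg_le fun k hk hk' => X_le_seg c (by omega) (by omega)
  · refine seg_le fun k hk hk' => ?_
    have e : k = m + 1 - (m + 1 - k) := by omega
    rw [e, ← symm_X]
    exact X_le_seg (symm c) (by omega) (by omega)

theorem symm_U (c : R2 m Y) : (symm c).U = c.U := by
  rw [U_eq, U_eq, symm_seg c le_rfl le_rfl]
  have e1 : m + 1 - m = 1 := by omega
  have e2 : m + 1 - 1 = m := by omega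
  rw [e1, e2]

/-- The reflections do not lie in the Borel subgroup. -/
structure Good (c : R2 m Y) : Prop where
  I : c.nI ∉ c.U ⊔ c.H
  J : c.nJ ∉ c.U ⊔ c.H

theorem Good.symm {c : R2 m Y} (h : Good c) : Good (symm c) := by
  refine ⟨?_, ?_⟩
  · rw [symm_U]; exact h.J
  · rw [symm_U]; exact h.I

section good

variable {c : R2 m Y} (hg : Good c)

include hg

/-- `XI' ∩ D = 1` -/
theorem XI'_D {b : Y} (hb : b ∈ c.XI') (hD : b ∈ c.U ⊔ c.H) : b = 1 := by
  by_contra hne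
  obtain ⟨x, hx, h, hh, y, hy, e⟩ := c.rank_oneI b hb hne
  have hUD : c.U ≤ c.U ⊔ c.H := le_sup_left
  have hHD : c.H ≤ c.U ⊔ c.H := le_sup_right
  apply hg.I
  have e2 : c.nI = x⁻¹ * b * (h * y)⁻¹ := by rw [e]; group
  rw [e2]
  exact mul_mem (mul_mem (inv_mem (hUD (c.X_le le_rfl c.one_le hx))) hD)
    (inv_mem (mul_mem (hHD hh) (hUD (c.X_le le_rfl c.one_le hy))))

/-- `X 1 ∩ seg 2 m = 1` -/
theorem X1_seg {x : Y} (hx : x ∈ c.X 1) (hx' : x ∈ seg c 2 m) : x = 1 := by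
  have h1 := c.nI_pos x hx
  have h2 := nI_seg c le_rfl le_rfl hx'
  have h3 : c.nI * x * c.nI⁻¹ ∈ c.U ⊔ c.H :=
    (le_sup_left : c.U ≤ _) (seg_le_U c (by omega) (by omega) h2)
  have h4 := XI'_D hg h1 h3
  simpa using h4

theorem Xm_seg {x : Y} (hx : x ∈ c.X m) (hx' : x ∈ seg c 1 (m - 1)) : x = 1 := by
  have hm := c.one_le
  refine X1_seg hg.symm (x := x) ?_ ?_
  · rw [symm_X]
    have e : m + 1 - 1 = m := by omega
    rwa [e]
  · rw [symm_seg c (by omega) le_rfl]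
    have e1 : m + 1 - m = 1 := by omega
    have e2 : m + 1 - 2 = m - 1 := by omega
    rwa [e1, e2]

/-- one half of the induction for the unique decomposition -/
theorem seg_inf_aux {r : ℕ} (h1 : 1 ≤ r) (h2 : r ≤ m) {x : Y} (hx : x ∈ seg c 1 r)
    (hx' : x ∈ seg c (r + 1) m) : x ∈ seg c 2 r := by
  obtain ⟨v, hv, y, hy, rfl⟩ := seg_decomp c le_rfl h1 h2 hx
  have h3 : v⁻¹ * (v * y) ∈ seg c 2 m :=
    mul_mem (inv_mem (seg_mono c le_rfl h2 hv)) (seg_mono c (by omega) le_rfl hx')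
  rw [inv_mul_cancel_left] at h3
  have h4 := X1_seg hg hy h3
  subst h4
  simpa using hv

/-- **unique decomposition**: `seg 1 r ∩ seg (r+1) m = 1` -/
theorem seg_inf : ∀ r ≤ m, ∀ x, x ∈ seg c 1 r → x ∈ seg c (r + 1) m → x = 1 := by
  intro r
  induction r using Nat.strong_induction_on with
  | _ r ih =>
    intro hr x hx hx'
    rcases Nat.eq_zero_or_pos r with rfl | h1
    · rw [seg_eq_bot c (by norm_num)] at hx
      exact hx
    rcases Nat.eq_or_lt_of_le h1 with h2 | h2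
    · obtain rfl : r = 1 := h2.symm
      rw [seg_self] at hx
      exact X1_seg hg hx hx'
    -- conjugate by `nI`
    have h3 := seg_inf_aux hg h1 hr hx hx'
    have h4 := nI_seg c le_rfl hr h3
    have h5 := nI_seg c (by omega) le_rfl hx'
    -- conjugate by `nJ`
    set y := c.nI * x * c.nI⁻¹ with hy
    have e1 : m + 2 - 2 = m := by omega
    have e2 : m + 2 - m = 2 := by omega
    rw [e1] at h4
    rw [e2] at h5
    have e3 : m + 2 - (r + 1) = m + 1 - r := by omega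
    rw [e3] at h5
    -- `y ∈ seg (m+2-r) m`, `y ∈ seg 2 (m+1-r)`; in `symm c`: `y ∈ seg 1 (r-1)`, `y ∈ seg r (m-1)`
    have h6 : y ∈ seg (symm c) 1 (r - 1) := by
      rw [symm_seg c le_rfl (by omega)]
      have e4 : m + 1 - (r - 1) = m + 2 - r := by omega
      have e5 : m + 1 - 1 = m := by omega
      rwa [e4, e5]
    have h7 : y ∈ seg (symm c) (r - 1 + 1) m := by
      rw [symm_seg c (by omega) le_rfl]
      have e4 : m + 1 - m = 1 := by omega
      have e5 : m + 1 - (r - 1 + 1) = m + 1 - r := by omega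
      rw [e4, e5]
      exact seg_mono c (by norm_num) le_rfl h5
    have h8 := seg_inf_aux hg.symm (r := r - 1) (by omega) (by omega) h6 h7
    have h9 := nI_seg (symm c) le_rfl (by omega) h8
    have h10 : (symm c).nI * y * (symm c).nI⁻¹ ∈ seg (symm c) 2 (m + 2 - r) := by
      have h11 : y ∈ seg (symm c) r m := by
        have e5 : r - 1 + 1 = r := by omega
        rwa [e5] at h7
      have h12 := nI_seg (symm c) (by omega) le_rfl h11
      rwa [e2] at h12
    have e6 : m + 2 - (r - 1) = m + 3 - r := by omega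
    rw [e6, e1] at h9
    set z := (symm c).nI * y * (symm c).nI⁻¹ with hz
    -- back in `c`: `z ∈ seg 1 (r-2)`, `z ∈ seg (r-1) (m-1)`
    rw [symm_seg c (by omega) (by omega)] at h9
    rw [symm_seg c (by omega) (by omega)] at h10
    have e7 : m + 1 - (m + 3 - r) = r - 2 := by omega
    have e8 : m + 1 - m = 1 := by omega
    have e9 : m + 1 - (m + 2 - r) = r - 1 := by omega
    rw [e7, e8] at h9
    rw [e9] at h10
    have h13 := ih (r - 2) (by omega) (by omega) z h9 (by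
      refine seg_mono c (by omega) (by omega) h10)
    have h14 : y = 1 := by
      rw [hz] at h13
      simpa using h13
    rw [hy] at h14
    simpa using h14

theorem X_ne_bot_m : ∃ x ∈ c.X m, x ≠ 1 := by
  by_contra h
  push Not at h
  have h1 : c.X m = ⊥ := by rw [eq_bot_iff]; exact fun x hx => h x hx
  have h2 : c.XJ' = ⊥ := by
    rw [eq_bot_iff]
    intro x hx
    have h3 := c.nJ_neg x hx
    have h4 := h _ h3
    have h5 : x = 1 := by simpa using h4
    exact h5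
  have h6 := c.memJ
  rw [h1, h2, sup_idem] at h6
  have h7 : c.nJ = 1 := h6
  apply hg.J
  rw [h7]
  exact one_mem _

/-- For `3 ≤ m` no nontrivial element of `X 1` centralises `X m`. -/
theorem eq_one_of_comm (hm : 3 ≤ m) {y : Y} (hy : y ∈ c.X 1) (h : ∀ s ∈ c.X m, y * s * y⁻¹ ∈ c.X m) :
    y = 1 := by
  by_contra hne
  -- `y` centralises `X m`
  have h1 : ∀ s ∈ c.X m, y * s * y⁻¹ = s := by
    intro s hs
    have h2 := comm_mem c le_rfl (by omega : 1 < m) le_rfl hy hs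
    have h3 : ⁅y, s⁆ ∈ c.X m := by
      rw [commutatorElement_def]
      exact mul_mem (h s hs) (inv_mem hs)
    have h4 := Xm_seg hg h3 (seg_mono c (by norm_num) le_rfl h2)
    rw [commutatorElement_def] at h4
    exact mul_inv_eq_one.1 h4
  have hg1 : c.nI * y * c.nI⁻¹ ∈ c.XI' := c.nI_pos y hy
  have hg2 : c.nI * y * c.nI⁻¹ ≠ 1 := by
    intro e
    apply hne
    simpa using e
  obtain ⟨x1, hx1, k, hk, y1, hy1, e⟩ := c.rank_oneI _ hg1 hg2
  -- `X 2 = 1`
  have h2 : ∀ v ∈ c.X 2, v = 1 := by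
    intro v hv
    have hc : ∀ x ∈ c.X 1, x * v * x⁻¹ = v := by
      intro x hx
      have h3 := comm_mem c le_rfl (by norm_num : 1 < 2) (by omega) hx hv
      rw [seg_eq_bot c (by norm_num)] at h3
      have h4 : ⁅x, v⁆ = 1 := h3
      rw [commutatorElement_def] at h4
      exact mul_inv_eq_one.1 h4
    -- `g v g⁻¹ = v`, `g = nI y nI⁻¹`
    have h3 : c.nI * y * c.nI⁻¹ * v * (c.nI * y * c.nI⁻¹)⁻¹ = v := by
      have h4 := c.nI_X_inv (k := 2) le_rfl (by omega) hv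
      have e1 : m + 2 - 2 = m := by omega
      rw [e1] at h4
      have h5 := h1 _ h4
      have e2 : c.nI * y * c.nI⁻¹ * v * (c.nI * y * c.nI⁻¹)⁻¹ =
        c.nI * (y * (c.nI⁻¹ * v * c.nI) * y⁻¹) * c.nI⁻¹ := by group
      rw [e2, h5]
      group
    rw [e] at h3
    have h6 : c.nI * (k * v * k⁻¹) * c.nI⁻¹ ∈ c.X m := by
      have h7 := c.nI_X 2 le_rfl (by omega) _ (c.HX k hk 2 (by norm_num) (by omega) v hv)
      have e1 : m + 2 - 2 = m := by omega
      rwa [e1] at h7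
    have h8 : x1 * (c.nI * (k * v * k⁻¹) * c.nI⁻¹) * x1⁻¹ = v := by
      have h9 := hc y1 hy1
      calc x1 * (c.nI * (k * v * k⁻¹) * c.nI⁻¹) * x1⁻¹
          = x1 * (c.nI * (k * (y1 * v * y1⁻¹) * k⁻¹) * c.nI⁻¹) * x1⁻¹ := by rw [h9]
        _ = x1 * c.nI * k * y1 * v * (x1 * c.nI * k * y1)⁻¹ := by group
        _ = v := h3
    have h10 : c.nI * (k * v * k⁻¹) * c.nI⁻¹ = v := by
      have h11 := hc x1 hx1
      have h12 : x1 * (c.nI * (k * v * k⁻¹) * c.nI⁻¹) * x1⁻¹ = x1 * v * x1⁻¹ := by rw [h8, h11]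
      exact mul_left_cancel (mul_right_cancel h12)
    rw [h10] at h6
    exact Xm_seg hg h6 (X_le_seg c (by norm_num) (by omega) hv)
  -- hence `X m = 1`
  obtain ⟨x, hx, hx1⟩ := X_ne_bot_m hg
  apply hx1
  have h3 := c.nI_X m (by omega) le_rfl x hx
  have e1 : m + 2 - m = 2 := by omega
  rw [e1] at h3
  have h4 := h2 _ h3
  simpa using h4

end good

/-- `XI'` acts trivially on `X r` modulo `seg (r+1) m`. -/
theorem XI'_comm (c : R2 m Y) {r : ℕ} (h1 : 2 ≤ r) (h2 : r ≤ m) {g : Y} (hg : g ∈ c.XI') {v : Y}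
    (hv : v ∈ c.X r) : v⁻¹ * (g * v * g⁻¹) ∈ seg c (r + 1) m := by
  have h3 := c.nI_neg g hg
  have h4 := c.nI_X r h1 h2 v hv
  have h5 := comm_mem c le_rfl (by omega) (by omega) h3 (inv_mem h4)
  have h6 := nI_seg_inv c (by omega) (by omega) (inv_mem h5)
  have e1 : m + 2 - (m + 2 - r - 1) = r + 1 := by omega
  have e2 : m + 2 - (1 + 1) = m := by omega
  rw [e1, e2] at h6
  have e3 : c.nI⁻¹ * ⁅c.nI * g * c.nI⁻¹, (c.nI * v * c.nI⁻¹)⁻¹⁆⁻¹ * c.nI = v⁻¹ * (g * v * g⁻¹) := by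
    rw [commutatorElement_def]; group
  rwa [e3] at h6

/-- `XI'` normalises `seg r m`. -/
theorem XI'_seg (c : R2 m Y) {r : ℕ} (h1 : 2 ≤ r) {g : Y} (hg : g ∈ c.XI') {v : Y}
    (hv : v ∈ seg c r m) : g * v * g⁻¹ ∈ seg c r m := by
  refine conj_seg (fun k hk hk' y hy => ?_) v hv
  have h3 := XI'_comm c (h1.trans hk) hk' hg hy
  have e : g * y * g⁻¹ = y * (y⁻¹ * (g * y * g⁻¹)) := by group
  rw [e]
  exact mul_mem (X_le_seg c hk hk' hy) (seg_mono c (by omega) le_rfl h3)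

end Cfsg.Agent.RootSeq.Seg
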